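/-
Computation in `GU_3(p)` with coded field elements: `x` stands for `x % p + (x / p) s`, `s * s = ns`.
-/
import Cfsg.Agent.Lib.Heis27.Unitary
import Cfsg.Prelude.Def_GeometricClasses

set_option autoImplicit false
set_option linter.unusedSectionVars false

namespace CfsgLib.MaxSub.SUThree

open Matrix

/-- Sum of codes. -/
def ca (p x y : ℕ) : ℕ := (x + y) % p + p * ((x / p + y / p) % p)

/-- Product of codes. -/
def cm (p ns x y : ℕ) : ℕ :=
  (x % p * (y % p) + ns * (x / p * (y / p))) % p + p * ((x % p * (y / p) + x / p * (y % p)) % p)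

/-- Negative of a code. -/
def cn (p x : ℕ) : ℕ := (p - x % p) % p + p * ((p - x / p % p) % p)

/-- Conjugate of a code. -/
def cj (p x : ℕ) : ℕ := x % p + p * ((p - x / p % p) % p)

/-- An entry. -/
def ent (X : List ℕ) (i j : ℕ) : ℕ := X.getD (3 * i + j) 0

/-- Scalar product of a row and a column. -/
def dot3 (p ns a b c x y z : ℕ) : ℕ := ca p (ca p (cm p ns a x) (cm p ns b y)) (cm p ns c z)

/-- Product of coded matrices. -/
def mM (p ns : ℕ) (X Y : List ℕ) : List ℕ :=
  let e := fun i j => dot3 p ns (ent X i 0) (ent X i 1) (ent X i 2) (ent Y 0 j) (ent Y 1 j) (ent Y 2 j)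
  [e 0 0, e 0 1, e 0 2, e 1 0, e 1 1, e 1 2, e 2 0, e 2 1, e 2 2]

/-- Image of a coded vector. -/
def mV (p ns : ℕ) (X v : List ℕ) : List ℕ :=
  let e := fun i => dot3 p ns (ent X i 0) (ent X i 1) (ent X i 2) (v.getD 0 0) (v.getD 1 0) (v.getD 2 0)
  [e 0, e 1, e 2]

/-- Multiple of a coded vector. -/
def sV (p ns c : ℕ) (v : List ℕ) : List ℕ :=
  [cm p ns c (v.getD 0 0), cm p ns c (v.getD 1 0), cm p ns c (v.getD 2 0)]

/-- The transpose. -/
def tp (X : List ℕ) : List ℕ :=
  [ent X 0 0, ent X 1 0, ent X 2 0, ent X 0 1, ent X 1 1, ent X 2 1, ent X 0 2, ent X 1 2, ent X 2 2]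

/-- The conjugate. -/
def cjM (p : ℕ) (X : List ℕ) : List ℕ :=
  [cj p (ent X 0 0), cj p (ent X 0 1), cj p (ent X 0 2), cj p (ent X 1 0), cj p (ent X 1 1),
    cj p (ent X 1 2), cj p (ent X 2 0), cj p (ent X 2 1), cj p (ent X 2 2)]

/-- The determinant. -/
def dt (p ns : ℕ) (X : List ℕ) : ℕ :=
  let m := fun a b c d => ca p (cm p ns a b) (cn p (cm p ns c d))
  dot3 p ns (ent X 0 0) (cn p (ent X 0 1)) (ent X 0 2)
    (m (ent X 1 1) (ent X 2 2) (ent X 1 2) (ent X 2 1))
    (m (ent X 1 0) (ent X 2 2) (ent X 1 2) (ent X 2 0))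
    (m (ent X 1 0) (ent X 2 1) (ent X 1 1) (ent X 2 0))

/-- The trace. -/
def tr (p : ℕ) (X : List ℕ) : ℕ := ca p (ca p (ent X 0 0) (ent X 1 1)) (ent X 2 2)

/-- The identity. -/
def I9 : List ℕ := [1, 0, 0, 0, 1, 0, 0, 0, 1]

/-- Powers. -/
def pM (p ns : ℕ) (X : List ℕ) : ℕ → List ℕ
  | 0 => I9
  | n + 1 => mM p ns (pM p ns X n) X

/-- A special unitary matrix. -/
def isSU (p ns : ℕ) (X : List ℕ) : Bool :=
  mM p ns (tp X) (cjM p X) == I9 && dt p ns X == 1

/-- The matrix moves a set of points into itself, by the given images and factors. -/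
def keeps (p ns : ℕ) (S : List (List ℕ)) (X : List ℕ) (img sc : List ℕ) : Bool :=
  (List.range S.length).all fun i =>
    decide (img.getD i 0 < S.length) &&
      mV p ns X (S.getD i []) == sV p ns (sc.getD i 0) (S.getD (img.getD i 0) [])

/-- The matrix moves a point out of a set. -/
def movesOut (p ns : ℕ) (S : List (List ℕ)) (X : List ℕ) (i : ℕ) : Bool :=
  decide (i < S.length) && (List.range S.length).all fun j =>
    (List.range (p * p)).all fun c => mV p ns X (S.getD i []) != sV p ns c (S.getD j [])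

/-- Coordinates on a field with `p ^ 2` elements. -/
structure Coord (F : Type*) [Field F] [Fintype F] (p ns : ℕ) where
  /-- the square root -/
  s : F
  prime : p.Prime
  odd : p ≠ 2
  card : Fintype.card F = p ^ 2
  charP : CharP F p
  sq : s * s = (ns : F)
  frob : s ^ p = -s
  ne : s ≠ 0

variable {F : Type*} [Field F] [Fintype F] {p ns : ℕ}

theorem exists_coord (hp : p.Prime) (hp2 : p ≠ 2) (hF : Fintype.card F = p ^ 2)
    (hns : ns ^ ((p - 1) / 2) % p = p - 1) : Nonempty (Coord F p ns) := by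
  classical
  haveI : Fact p.Prime := ⟨hp⟩
  haveI : CharP F p := charP_of_card_eq_prime_pow (p := p) (f := 2) hF
  have hodd : p % 2 = 1 := (hp.eq_two_or_odd).resolve_left hp2
  have h2 : ringChar F ≠ 2 := by rw [ringChar.eq F p]; exact hp2
  have hm : (ns : F) ^ ((p - 1) / 2) = -1 := by
    have h0 : ((ns ^ ((p - 1) / 2) + 1 : ℕ) : F) = 0 := by
      rw [CharP.cast_eq_zero_iff F p, Nat.dvd_iff_mod_eq_zero, Nat.add_mod, hns,
        Nat.mod_eq_of_lt hp.one_lt, Nat.sub_add_cancel hp.one_le, Nat.mod_self]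
    rw [eq_neg_iff_add_eq_zero]
    exact_mod_cast h0
  have hn0 : (ns : F) ≠ 0 := fun e => by
    rw [e, zero_pow (by have := hp.two_le; omega), eq_comm, neg_eq_zero] at hm
    exact one_ne_zero hm
  obtain ⟨k, hk⟩ : ∃ k, p = 2 * k + 1 := ⟨p / 2, by omega⟩
  have hk2 : (p - 1) / 2 = k := by omega
  rw [hk2] at hm
  have hsq : IsSquare (ns : F) := by
    rw [FiniteField.isSquare_iff h2 hn0, hF,
      show p ^ 2 / 2 = k * (2 * (k + 1)) from by
        have : (2 * k + 1) ^ 2 = 2 * (k * (2 * (k + 1))) + 1 := by ring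
        rw [hk, this]; omega,
      pow_mul, hm, (even_two_mul _).neg_one_pow]
  obtain ⟨s, hs⟩ := hsq
  exact ⟨⟨s, hp, hp2, hF, inferInstance, hs.symm, by
    rw [hk, pow_succ, pow_mul, sq, ← hs, hm, neg_one_mul], fun e => hn0 (by rw [hs, e, zero_mul])⟩⟩

variable (C : Coord F p ns)

/-- The element of a code. -/
def dec (x : ℕ) : F := ((x % p : ℕ) : F) + ((x / p : ℕ) : F) * C.s

/-- The matrix of a code. -/
def decM (X : List ℕ) : Matrix (Fin 3) (Fin 3) F := Matrix.of fun i j => dec C (ent X i j)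

/-- The vector of a code. -/
def decV (v : List ℕ) : Fin 3 → F := fun i => dec C (v.getD i 0)

include C in
theorem cast_mod (n : ℕ) : ((n % p : ℕ) : F) = (n : F) := by
  haveI := C.charP
  conv_rhs => rw [← Nat.mod_add_div n p]
  rw [Nat.cast_add, Nat.cast_mul, CharP.cast_eq_zero F p, zero_mul, add_zero]

include C in
theorem cast_sub_mod (n : ℕ) : ((p - n % p : ℕ) : F) = -(n : F) := by
  haveI := C.charP
  rw [Nat.cast_sub (Nat.mod_lt _ C.prime.pos).le, CharP.cast_eq_zero, cast_mod C, zero_sub]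

theorem dec_pair (a b : ℕ) : dec C (a % p + p * (b % p)) = (a : F) + (b : F) * C.s := by
  have hp := C.prime.pos
  rw [dec, Nat.add_mul_mod_self_left, Nat.mod_mod, Nat.add_mul_div_left _ _ hp,
    Nat.div_eq_of_lt (Nat.mod_lt _ hp), zero_add, cast_mod C, cast_mod C]

theorem dec_zero : dec C 0 = 0 := by simp [dec]

theorem dec_one : dec C 1 = 1 := by
  simp [dec, Nat.mod_eq_of_lt C.prime.one_lt, Nat.div_eq_of_lt C.prime.one_lt]

theorem dec_ca (x y : ℕ) : dec C (ca p x y) = dec C x + dec C y := by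
  rw [ca, dec_pair C]
  simp only [dec, Nat.cast_add, cast_mod C]
  ring

theorem dec_cm (x y : ℕ) : dec C (cm p ns x y) = dec C x * dec C y := by
  rw [cm, dec_pair C]
  simp only [dec, Nat.cast_add, Nat.cast_mul]
  linear_combination -((x / p : ℕ) : F) * ((y / p : ℕ) : F) * C.sq

theorem dec_cn (x : ℕ) : dec C (cn p x) = -dec C x := by
  rw [cn, dec_pair C]
  simp only [dec, cast_sub_mod C, cast_mod C]
  ring

theorem dec_cj (x : ℕ) : dec C (cj p x) = dec C x ^ p := by
  haveI := C.charP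
  haveI : Fact p.Prime := ⟨C.prime⟩
  have hc : ∀ n : ℕ, ((n : F)) ^ p = (n : F) := fun n => by
    rw [← map_natCast (ZMod.castHom (dvd_refl p) F) n, ← map_pow, ZMod.pow_card]
  conv_lhs => rw [cj, ← Nat.mod_mod x p]
  rw [dec_pair C, dec, add_pow_char, mul_pow, hc, hc, C.frob, cast_sub_mod C]
  ring

theorem dec_inj {x y : ℕ} (hx : x < p * p) (hy : y < p * p) (h : dec C x = dec C y) : x = y := by
  haveI := C.charP
  haveI : Fact p.Prime := ⟨C.prime⟩
  have hc : ∀ n : ℕ, ((n : F)) ^ p = (n : F) := fun n => by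
    rw [← map_natCast (ZMod.castHom (dvd_refl p) F) n, ← map_pow, ZMod.pow_card]
  have h' := congrArg (fun z => z ^ p) h
  simp only [dec, add_pow_char, mul_pow, hc, C.frob] at h' h
  have h2 : (2 : F) ≠ 0 := fun e => by
    have := (CharP.cast_eq_zero_iff F p 2).1 (by exact_mod_cast e)
    exact C.odd ((Nat.prime_dvd_prime_iff_eq C.prime Nat.prime_two).1 this)
  have hs := C.ne
  have e1 : ((x / p : ℕ) : F) = ((y / p : ℕ) : F) := by
    have : 2 * C.s * (((x / p : ℕ) : F) - ((y / p : ℕ) : F)) = 0 := by linear_combination h - h'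
    exact sub_eq_zero.1 ((mul_eq_zero.1 this).resolve_left (mul_ne_zero h2 hs))
  have e0 : ((x % p : ℕ) : F) = ((y % p : ℕ) : F) := by linear_combination h - C.s * e1
  have p0 := C.prime.pos
  have f0 := Nat.ModEq.eq_of_lt_of_lt ((CharP.natCast_eq_natCast F p).1 e0) (Nat.mod_lt _ p0) (Nat.mod_lt _ p0)
  have f1 := Nat.ModEq.eq_of_lt_of_lt ((CharP.natCast_eq_natCast F p).1 e1)
    (Nat.div_lt_of_lt_mul hx) (Nat.div_lt_of_lt_mul hy)
  rw [← Nat.mod_add_div x p, f0, f1, Nat.mod_add_div]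

theorem dec_dot3 (a b c x y z : ℕ) : dec C (dot3 p ns a b c x y z) =
    dec C a * dec C x + dec C b * dec C y + dec C c * dec C z := by
  simp only [dot3, dec_ca C, dec_cm C]

theorem decM_mul (X Y : List ℕ) : decM C (mM p ns X Y) = decM C X * decM C Y := by
  ext i j
  fin_cases i <;> fin_cases j <;>
    simp [decM, mM, ent, Matrix.mul_apply, Fin.sum_univ_three, dec_dot3 C]

theorem decM_one : decM C I9 = 1 := by
  ext i j
  fin_cases i <;> fin_cases j <;> simp [decM, ent, I9, dec_zero C, dec_one C]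

theorem decM_pow (X : List ℕ) : ∀ n, decM C (pM p ns X n) = decM C X ^ n
  | 0 => by rw [pM, decM_one, pow_zero]
  | n + 1 => by rw [pM, decM_mul, decM_pow X n, pow_succ]

theorem decV_mV (X v : List ℕ) : decV C (mV p ns X v) = decM C X *ᵥ decV C v := by
  funext i
  fin_cases i <;>
    simp [decV, decM, mV, ent, Matrix.mulVec, dotProduct, Fin.sum_univ_three, dec_dot3 C]

theorem decV_sV (c : ℕ) (v : List ℕ) : decV C (sV p ns c v) = dec C c • decV C v := by
  funext i
  fin_cases i <;> simp [decV, sV, dec_cm C]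

theorem det_decM (X : List ℕ) : (decM C X).det = dec C (dt p ns X) := by
  rw [Matrix.det_fin_three]
  simp only [decM, Matrix.of_apply, dt, dec_dot3 C, dec_ca C, dec_cn C, dec_cm C]
  simp only [show ((0 : Fin 3) : ℕ) = 0 from rfl, show ((1 : Fin 3) : ℕ) = 1 from rfl,
    show ((2 : Fin 3) : ℕ) = 2 from rfl]
  ring

theorem trace_decM (X : List ℕ) : (decM C X).trace = dec C (tr p X) := by
  rw [Matrix.trace_fin_three]
  simp [decM, tr, dec_ca C]

theorem exists_su {X : List ℕ} (h : isSU p ns X = true) :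
    ∃ g : GL (Fin 3) F, (g : Matrix (Fin 3) (Fin 3) F) = decM C X ∧
      g ∈ Cfsg.GU 3 F p ⊓ Cfsg.Geo.specialLinear (Fin 3) F := by
  rw [isSU, Bool.and_eq_true, beq_iff_eq, beq_iff_eq] at h
  have hu := congrArg (decM C) h.1
  rw [decM_mul, decM_one] at hu
  obtain ⟨g, hg, hgc⟩ := CfsgLib.Heis27.unitary_of_cols C.card (fun j i => decM C X i j)
    fun i j => by
      have e := congrFun (congrFun hu i) j
      rw [Matrix.one_apply] at e
      rw [← e, Matrix.mul_apply]
      show ∑ k, decM C X k i * decM C X k j ^ p = _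
      refine Finset.sum_congr rfl fun k _ => ?_
      fin_cases i <;> fin_cases j <;> fin_cases k <;> simp [decM, tp, cjM, ent, dec_cj C]
  have e : (g : Matrix (Fin 3) (Fin 3) F) = decM C X := Matrix.ext hgc
  refine ⟨g, e, hg, MonoidHom.mem_ker.2 (Units.ext ?_)⟩
  rw [Matrix.GeneralLinearGroup.val_det_apply, e, det_decM, h.2, dec_one, Units.val_one]

/-- The stabiliser of a coded set of points. -/
def stab (S : List (List ℕ)) : Subgroup (GL (Fin 3) F) where
  carrier := {g | ∀ i < S.length, ∃ j < S.length, ∃ c : F,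
    (g : Matrix (Fin 3) (Fin 3) F) *ᵥ decV C (S.getD i []) = c • decV C (S.getD j [])}
  one_mem' := fun i hi => ⟨i, hi, 1, by simp⟩
  mul_mem' := fun {a b} ha hb i hi => by
    obtain ⟨j, hj, c, e⟩ := hb i hi
    obtain ⟨k, hk, d, e'⟩ := ha j hj
    exact ⟨k, hk, c * d, by
      rw [Units.val_mul, ← Matrix.mulVec_mulVec, e, Matrix.mulVec_smul, e', smul_smul]⟩
  inv_mem' := fun {a} ha => by
    have hpow : ∀ k : ℕ, ∀ i < S.length, ∃ j < S.length, ∃ c : F,
        ((a ^ k : GL (Fin 3) F) : Matrix (Fin 3) (Fin 3) F) *ᵥ decV C (S.getD i []) =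
          c • decV C (S.getD j []) := by
      intro k
      induction k with
      | zero => exact fun i hi => ⟨i, hi, 1, by simp⟩
      | succ k ih =>
        intro i hi
        obtain ⟨j, hj, c, e⟩ := ih i hi
        obtain ⟨l, hl, d, e'⟩ := ha j hj
        exact ⟨l, hl, c * d, by
          rw [pow_succ', Units.val_mul, ← Matrix.mulVec_mulVec, e, Matrix.mulVec_smul, e', smul_smul]⟩
    haveI : Finite (GL (Fin 3) F) := inferInstance
    have hinv : a⁻¹ = a ^ (orderOf a - 1) :=
      inv_eq_of_mul_eq_one_right (by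
        rw [← pow_succ', Nat.sub_add_cancel (orderOf_pos a), pow_orderOf_eq_one])
    intro i hi
    rw [hinv]
    exact hpow _ i hi

theorem mem_stab {S : List (List ℕ)} {X img sc : List ℕ} (h : keeps p ns S X img sc = true)
    {g : GL (Fin 3) F} (hg : (g : Matrix (Fin 3) (Fin 3) F) = decM C X) : g ∈ stab C S := by
  intro i hi
  rw [keeps, List.all_eq_true] at h
  have hk := h i (List.mem_range.2 hi)
  rw [Bool.and_eq_true, decide_eq_true_iff, beq_iff_eq] at hk
  exact ⟨_, hk.1, dec C (sc.getD i 0), by rw [hg, ← decV_mV, hk.2, decV_sV]⟩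

theorem exists_code (x : F) : ∃ c < p * p, dec C c = x := by
  classical
  have hinj : Function.Injective fun c : Fin (p * p) => dec C c := fun a b e =>
    Fin.ext (dec_inj C a.2 b.2 e)
  have hb := (Fintype.bijective_iff_injective_and_card _).2
    ⟨hinj, by rw [Fintype.card_fin, C.card, sq]⟩
  obtain ⟨c, hc⟩ := hb.2 x
  exact ⟨c, c.2, hc⟩

include C in
theorem ca_lt (x y : ℕ) : ca p x y < p * p := by
  have hp := C.prime.pos
  have h1 := Nat.mod_lt (x + y) hp
  have h2 : (x / p + y / p) % p + 1 ≤ p := Nat.mod_lt _ hp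
  have h3 := Nat.mul_le_mul_left p h2
  rw [mul_add, mul_one] at h3
  unfold ca
  omega

include C in
theorem cm_lt (x y : ℕ) : cm p ns x y < p * p := by
  have hp := C.prime.pos
  have h1 := Nat.mod_lt (x % p * (y % p) + ns * (x / p * (y / p))) hp
  have h2 : (x % p * (y / p) + x / p * (y % p)) % p + 1 ≤ p := Nat.mod_lt _ hp
  have h3 := Nat.mul_le_mul_left p h2
  rw [mul_add, mul_one] at h3
  unfold cm
  omega

theorem not_mem_stab {S : List (List ℕ)} {X : List ℕ} {i : ℕ} (h : movesOut p ns S X i = true)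
    {g : GL (Fin 3) F} (hg : (g : Matrix (Fin 3) (Fin 3) F) = decM C X) : g ∉ stab C S := by
  rw [movesOut, Bool.and_eq_true, decide_eq_true_iff, List.all_eq_true] at h
  intro hmem
  obtain ⟨j, hj, c, e⟩ := hmem i h.1
  obtain ⟨z, hz, rfl⟩ := exists_code C c
  have hk := List.all_eq_true.1 (h.2 j (List.mem_range.2 hj)) z (List.mem_range.2 hz)
  rw [bne_iff_ne] at hk
  apply hk
  rw [hg, ← decV_mV, ← decV_sV] at e
  have key : ∀ k : Fin 3, (mV p ns X (S.getD i [])).getD k 0 = (sV p ns z (S.getD j [])).getD k 0 :=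
    fun k => dec_inj C (by fin_cases k <;> exact ca_lt C _ _) (by fin_cases k <;> exact cm_lt C _ _)
      (congrFun e k)
  have k0 := key 0
  have k1 := key 1
  have k2 := key 2
  simp [mV, sV] at k0 k1 k2 ⊢
  exact ⟨k0, k1, k2⟩

end CfsgLib.MaxSub.SUThree
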