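/-
Subgroups of `SU_3(p)` lying in a conjugate of the stabiliser of a coded set of points: generalities,
orthogonal frames and real forms.
-/
import Cfsg.Agent.Lib.MaxSub.SUThree.Code
import Cfsg.Agent.Lib.Aschbacher.Singer
import Cfsg.Agent.Lib.Aschbacher.UnitaryProper

set_option autoImplicit false
set_option maxHeartbeats 800000
set_option linter.unusedSectionVars false

namespace CfsgLib.MaxSub.SUThree

open Matrix Module Cfsg Cfsg.Geo CfsgLib.Heis27

variable {F : Type*} [Field F] [Fintype F] {p ns : ℕ}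

/-- The group. -/
abbrev G3 (p : ℕ) (F : Type*) [Field F] : Subgroup (GL (Fin 3) F) :=
  Cfsg.GU 3 F p ⊓ Cfsg.Geo.specialLinear (Fin 3) F

theorem conj_mem_G3 {U g : GL (Fin 3) F} (hU : U ∈ Cfsg.GU 3 F p) (hg : g ∈ G3 p F) :
    U⁻¹ * g * U ∈ G3 p F ∧ U * g * U⁻¹ ∈ G3 p F := by
  refine ⟨⟨Subgroup.mul_mem _ (Subgroup.mul_mem _ (Subgroup.inv_mem _ hU) hg.1) hU,
      MonoidHom.mem_ker.2 ?_⟩,
    Subgroup.mul_mem _ (Subgroup.mul_mem _ hU hg.1) (Subgroup.inv_mem _ hU),
      MonoidHom.mem_ker.2 ?_⟩ <;>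
    simp [MonoidHom.mem_ker.1 hg.2, mul_comm]

/-- A group inside a conjugate of a proper subgroup, smaller than the conjugate, is not maximal. -/
theorem between {H M : Subgroup (GL (Fin 3) F)} {U t w : GL (Fin 3) F} (hU : U ∈ Cfsg.GU 3 F p)
    (hH : H ≤ G3 p F) (hle : ∀ g ∈ H, U⁻¹ * g * U ∈ M) (htG : t ∈ G3 p F) (htM : t ∈ M)
    (htH : U * t * U⁻¹ ∉ H) (hwG : w ∈ G3 p F) (hwM : w ∉ M) :
    ∃ K, H < K ∧ K < G3 p F := by
  refine ⟨(M ⊓ G3 p F).map (MulAut.conj U).toMonoidHom,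
    lt_of_le_of_ne (fun g hg => ⟨U⁻¹ * g * U, ⟨hle g hg, (conj_mem_G3 hU (hH hg)).1⟩, by
      simp [mul_assoc]⟩) fun e => htH ?_,
    lt_of_le_of_ne ?_ fun e => hwM ?_⟩
  · exact e.ge ⟨t, ⟨htM, htG⟩, by simp⟩
  · rintro _ ⟨y, hy, rfl⟩
    simpa using (conj_mem_G3 hU hy.2).2
  · obtain ⟨y, hy, he⟩ := e.ge (conj_mem_G3 hU hwG).2
    have : y = w := by simpa using he
    exact this ▸ hy.1

theorem not_maximal {H : Subgroup (GL (Fin 3) F)} (hK : ∃ K, H < K ∧ K < G3 p F) :
    ¬ IsMaximalIn (G3 p F) H := fun h => by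
  obtain ⟨K, h1, h2⟩ := hK
  rcases h.2 K h1.le h2.le with e | e
  · exact h1.ne e.symm
  · exact h2.ne e

variable (C : Coord F p ns)

theorem dec_of_lt {n : ℕ} (h : n < p) : dec C n = (n : F) := by
  simp [dec, Nat.mod_eq_of_lt h, Nat.div_eq_of_lt h]

theorem dec_ne {x y : ℕ} (hx : x < p * p) (hy : y < p * p) (h : x ≠ y) : dec C x ≠ dec C y :=
  fun e => h (dec_inj C hx hy e)

theorem isSU_mem {X : List ℕ} (h : isSU p ns X = true) {g : GL (Fin 3) F}
    (hg : (g : Matrix (Fin 3) (Fin 3) F) = decM C X) : g ∈ G3 p F := by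
  obtain ⟨g', e, hg'⟩ := exists_su C h
  rwa [show g = g' from Units.ext (hg.trans e.symm)]

/-- The coded members: in the group and in the stabiliser. -/
def Good (p ns : ℕ) (S mem img sc : List (List ℕ)) : Prop :=
  (List.range mem.length).all (fun i =>
    keeps p ns S (mem.getD i []) (img.getD i []) (sc.getD i []) && isSU p ns (mem.getD i [])) = true

theorem Good.exists_mem {S mem img sc : List (List ℕ)} (h : Good p ns S mem img sc) {X : List ℕ}
    (hX : X ∈ mem) :
    ∃ g : GL (Fin 3) F, (g : Matrix (Fin 3) (Fin 3) F) = decM C X ∧ g ∈ G3 p F ∧ g ∈ stab C S := by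
  obtain ⟨i, hi, rfl⟩ := List.mem_iff_getElem.1 hX
  have hk := List.all_eq_true.1 h i (List.mem_range.2 hi)
  rw [Bool.and_eq_true, List.getD_eq_getElem _ _ hi] at hk
  obtain ⟨g, hg, hgG⟩ := exists_su C hk.2
  exact ⟨g, hg, hgG, mem_stab C hk.1 hg⟩

/-- Coded members, by their matrix. -/
theorem Good.mem_stab {S mem img sc : List (List ℕ)} (h : Good p ns S mem img sc) {X : List ℕ}
    (hX : X ∈ mem) {g : GL (Fin 3) F} (hg : (g : Matrix (Fin 3) (Fin 3) F) = decM C X) :
    g ∈ stab C S := by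
  obtain ⟨g', e, -, hs⟩ := h.exists_mem C hX
  rwa [show g = g' from Units.ext (hg.trans e.symm)]

theorem exists_not_mem {S : List (List ℕ)} {W : List ℕ} {i : ℕ} (hm : movesOut p ns S W i = true)
    (hW : isSU p ns W = true) : ∃ w ∈ G3 p F, w ∉ stab C S := by
  obtain ⟨w, hw, hwG⟩ := exists_su C hW
  exact ⟨w, hwG, not_mem_stab C hm hw⟩

include C in
theorem hh_col {g : GL (Fin 3) F} (hg : g ∈ Cfsg.GU 3 F p) (i j : Fin 3) :
    ∑ k, (g : Matrix (Fin 3) (Fin 3) F) k i * (g : Matrix (Fin 3) (Fin 3) F) k j ^ p =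
      if i = j then 1 else 0 := by
  have e := hg (Pi.single i 1) (Pi.single j 1)
  rw [Matrix.mulVec_single_one, Matrix.mulVec_single_one,
    CfsgLib.UnitaryOrder.herm_single_right C.card] at e
  rw [show (if i = j then (1 : F) else 0) = (Pi.single i 1 : Fin 3 → F) j by
    rw [Pi.single_apply]; simp only [eq_comm]]
  exact e

/-- An element mapping the coordinate lines among themselves. -/
theorem monomial_mem {S mem img sc perms : List (List ℕ)} (hG : Good p ns S mem img sc)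
    (hperms : (perms.all fun X => mem.contains X) = true)
    (hperm : ∀ σ : Fin 3 → Fin 3, Function.Injective σ →
      ∃ X ∈ perms, ∀ i j : Fin 3, ent X i j = 0 ↔ i ≠ σ j)
    {A B : List ℕ} (hA : A ∈ mem) (hB : B ∈ mem) {u : F} (hu : IsPrimitiveRoot u (p + 1))
    (hAe : decM C A = Matrix.diagonal ![u, u⁻¹, 1]) (hBe : decM C B = Matrix.diagonal ![1, u, u⁻¹])
    {g : GL (Fin 3) F} (hg : g ∈ G3 p F) {σ : Fin 3 → Fin 3} (hσ : Function.Injective σ)
    (hmon : ∀ i j, i ≠ σ j → (g : Matrix (Fin 3) (Fin 3) F) i j = 0) : g ∈ stab C S := by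
  classical
  obtain ⟨X, hX, hXσ⟩ := hperm σ hσ
  have hXm : X ∈ mem := List.contains_iff_mem.1 (List.all_eq_true.1 hperms X hX)
  obtain ⟨P, hP, hPG, hPS⟩ := hG.exists_mem C hXm
  let g' := g * P⁻¹
  have hg'G : g' ∈ G3 p F := mul_mem hg (inv_mem hPG)
  -- the quotient is diagonal
  obtain ⟨d, hd⟩ : ∃ d : Fin 3 → F, (g' : Matrix (Fin 3) (Fin 3) F) = Matrix.diagonal d := by
    let σe : Equiv.Perm (Fin 3) := Equiv.ofBijective σ (Finite.injective_iff_bijective.1 hσ)
    have hX0 : ∀ j, dec C (ent X (σ j : Fin 3) j) ≠ 0 := fun j h0 => by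
      have hcol := hh_col C hPG.1 j j
      rw [if_pos rfl, hP] at hcol
      rw [Finset.sum_eq_zero] at hcol
      · exact zero_ne_one hcol
      intro k _
      by_cases hk : k = σ j
      · subst hk
        simp only [decM, Matrix.of_apply, h0, zero_mul]
      · simp only [decM, Matrix.of_apply, (hXσ k j).2 hk, dec_zero, zero_mul]
    refine ⟨fun i => (g : Matrix (Fin 3) (Fin 3) F) i (σe.symm i) *
      (dec C (ent X i (σe.symm i : Fin 3)))⁻¹, ?_⟩
    have hmul : (g : Matrix (Fin 3) (Fin 3) F) = Matrix.diagonal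
        (fun i => (g : Matrix (Fin 3) (Fin 3) F) i (σe.symm i) *
          (dec C (ent X i (σe.symm i : Fin 3)))⁻¹) * (P : Matrix (Fin 3) (Fin 3) F) := by
      ext i j
      rw [Matrix.diagonal_mul, hP]
      simp only [decM, Matrix.of_apply]
      by_cases hij : i = σ j
      · subst hij
        rw [show σe.symm (σ j) = j from σe.symm_apply_apply j, mul_assoc,
          inv_mul_cancel₀ (hX0 j), mul_one]
      · rw [hmon i j hij, (hXσ i j).2 hij, dec_zero, mul_zero]
    show ((g * P⁻¹ : GL (Fin 3) F) : Matrix (Fin 3) (Fin 3) F) = _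
    rw [Units.val_mul]
    conv_lhs => rw [hmul]
    rw [mul_assoc, Units.mul_inv, mul_one]
  have hroot : ∀ i, d i ^ (p + 1) = 1 := fun i => by
    have h := hh_col C hg'G.1 i i
    rw [if_pos rfl, hd, Finset.sum_eq_single i (fun k _ hk => by
      rw [Matrix.diagonal_apply_ne _ hk, zero_mul]) (fun h' => absurd (Finset.mem_univ i) h'),
      Matrix.diagonal_apply_eq, ← pow_succ'] at h
    exact h
  have hdet : d 0 * d 1 * d 2 = 1 := by
    have h := congrArg Units.val (MonoidHom.mem_ker.1 hg'G.2)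
    rw [Matrix.GeneralLinearGroup.val_det_apply, hd, Matrix.det_diagonal, Fin.prod_univ_three,
      Units.val_one] at h
    exact h
  haveI : NeZero (p + 1) := ⟨by omega⟩
  obtain ⟨i, -, hi⟩ := hu.eq_pow_of_pow_eq_one (hroot 0)
  obtain ⟨k, -, hk⟩ := hu.eq_pow_of_pow_eq_one (ξ := d 0 * d 1) (by rw [mul_pow, hroot, hroot, mul_one])
  obtain ⟨a, ha, -, haS⟩ := hG.exists_mem C hA
  obtain ⟨b, hb, -, hbS⟩ := hG.exists_mem C hB
  have hu0 : u ≠ 0 := hu.ne_zero (by omega)
  have e : g' = a ^ i * b ^ k := by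
    refine Units.ext ?_
    rw [Units.val_mul (a ^ i), Units.val_pow_eq_pow_val, Units.val_pow_eq_pow_val, ha, hb, hAe, hBe, hd,
      Matrix.diagonal_pow, Matrix.diagonal_pow, Matrix.diagonal_mul_diagonal]
    refine congrArg Matrix.diagonal (funext fun j => ?_)
    fin_cases j <;> simp
    · exact hi.symm
    · rw [hk, hi, inv_mul_cancel_left₀]
      exact fun h0 => hu0 (pow_eq_zero_iff'.1 (hi.trans h0)).1
    · rw [hk]
      exact eq_inv_of_mul_eq_one_right hdet
  have : g = g' * P := by simp [g', mul_assoc]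
  rw [this, e]
  exact mul_mem (mul_mem (pow_mem haS i) (pow_mem hbS k)) hPS

include C in
/-- A frame is a unitary image of the coordinate lines. -/
theorem exists_frame_basis {D : Fin 3 → Submodule F (Fin 3 → F)}
    (hD : IsNondegenerateMDecomposition (Cfsg.hermForm 3 F p) 1 D) :
    ∃ U : GL (Fin 3) F, U ∈ Cfsg.GU 3 F p ∧
      ∀ i, D i = Submodule.span F {(U : Matrix (Fin 3) (Fin 3) F) *ᵥ Pi.single i 1} := by
  classical
  have hex : ∀ i, ∃ v ∈ D i, v ≠ 0 := fun i => by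
    refine Submodule.exists_mem_ne_zero_of_ne_bot fun e => ?_
    have := hD.decomp.finrank_eq i
    rw [e, finrank_bot] at this
    omega
  choose v hv hv0 using hex
  have hspan : ∀ i, D i = Submodule.span F {v i} := fun i =>
    (Submodule.eq_of_le_of_finrank_eq ((Submodule.span_singleton_le_iff_mem _ _).2 (hv i))
      (by rw [finrank_span_singleton (hv0 i), hD.decomp.finrank_eq i])).symm
  have hnz : ∀ i, hh p (v i) (v i) ≠ 0 := fun i h0 => by
    obtain ⟨-, x, hx, hx'⟩ := hD.nondegenerate i (v i) (hv i) (hv0 i)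
    rw [hspan i, Submodule.mem_span_singleton] at hx
    obtain ⟨c, rfl⟩ := hx
    change hh p (v i) (c • v i) ≠ 0 at hx'
    rw [hh_smul_right C.card, h0, mul_zero] at hx'
    exact hx' rfl
  choose l hl0 hl using fun i => normalise C.card (hnz i)
  obtain ⟨U, hU, hUc⟩ := unitary_of_cols C.card (fun i => l i • v i) fun i j => by
    rcases eq_or_ne i j with rfl | hij
    · rw [if_pos rfl, hl]
    · rw [if_neg hij, hh_smul_left C.card, hh_smul_right C.card,
        show hh p (v i) (v j) = 0 from hD.orthogonal i j hij _ (hv i) _ (hv j), mul_zero, mul_zero]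
  refine ⟨U, hU, fun i => ?_⟩
  have hcol : (U : Matrix (Fin 3) (Fin 3) F) *ᵥ Pi.single i 1 = l i • v i := by
    rw [Matrix.mulVec_single_one]
    funext k
    exact hUc k i
  rw [hcol, Submodule.span_singleton_smul_eq (isUnit_iff_ne_zero.2 (hl0 i)), hspan i]

/-- In frame coordinates the stabiliser is monomial. -/
theorem frame_conj {D : Fin 3 → Submodule F (Fin 3 → F)} {U g : GL (Fin 3) F}
    (hD : IsMDecomposition 1 D)
    (hU : ∀ i, D i = Submodule.span F {(U : Matrix (Fin 3) (Fin 3) F) *ᵥ Pi.single i 1})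
    (hg : g ∈ decompositionStabilizer D) :
    ∃ σ : Fin 3 → Fin 3, Function.Injective σ ∧
      ∀ i j, i ≠ σ j → ((U⁻¹ * g * U : GL (Fin 3) F) : Matrix (Fin 3) (Fin 3) F) i j = 0 := by
  obtain ⟨σ, hσ⟩ := hg
  refine ⟨σ, σ.injective, fun i j hij => ?_⟩
  have hmem : (g : Matrix (Fin 3) (Fin 3) F) *ᵥ ((U : Matrix (Fin 3) (Fin 3) F) *ᵥ Pi.single j 1) ∈
      D (σ j) := by
    rw [← hσ j]
    exact ⟨_, (hU j).ge (Submodule.mem_span_singleton_self _), Matrix.toLin'_apply _ _⟩
  rw [hU, Submodule.mem_span_singleton] at hmem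
  obtain ⟨c, hc⟩ := hmem
  have h : ((U⁻¹ * g * U : GL (Fin 3) F) : Matrix (Fin 3) (Fin 3) F) *ᵥ Pi.single j 1 =
      c • Pi.single (σ j) 1 := by
    rw [Units.val_mul, Units.val_mul, ← Matrix.mulVec_mulVec, ← Matrix.mulVec_mulVec, ← hc,
      Matrix.mulVec_smul, Matrix.mulVec_mulVec _ _ (U : Matrix (Fin 3) (Fin 3) F), Units.inv_mul,
      Matrix.one_mulVec]
  rw [Matrix.mulVec_single_one] at h
  have := congrFun h i
  simpa [Matrix.col_apply, hij] using this

/-- An element with a column on two axes fixes no frame. -/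
theorem frame_witness {D : Fin 3 → Submodule F (Fin 3 → F)} {U t : GL (Fin 3) F}
    (hD : IsMDecomposition 1 D)
    (hU : ∀ i, D i = Submodule.span F {(U : Matrix (Fin 3) (Fin 3) F) *ᵥ Pi.single i 1})
    (h0 : (t : Matrix (Fin 3) (Fin 3) F) 0 0 ≠ 0) (h1 : (t : Matrix (Fin 3) (Fin 3) F) 1 0 ≠ 0) :
    U * t * U⁻¹ ∉ decompositionStabilizer D := fun h => by
  obtain ⟨σ, -, hσ⟩ := frame_conj hD hU h
  rw [show U⁻¹ * (U * t * U⁻¹) * U = t by group] at hσ
  rcases eq_or_ne (0 : Fin 3) (σ 0) with e | e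
  · exact h1 (hσ 1 0 (e ▸ by decide))
  · exact h0 (hσ 0 0 e)

end CfsgLib.MaxSub.SUThree
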