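/-
Normalisers of cubic fields in `SU_3(p)` inside the stabiliser of a coded set of points.
-/
import Cfsg.Agent.Lib.MaxSub.SUThree.Basic

set_option autoImplicit false
set_option maxHeartbeats 1000000
set_option linter.unusedSectionVars false

namespace CfsgLib.MaxSub.SUThree

open Matrix Module Cfsg Cfsg.Geo CfsgLib.Heis27
open scoped Pointwise
open CfsgLib.Aschbacher (exists_unitary_hermForm norm_one_torus mem_of_commute mem_zpowers_of_pow_eq_one
  finite_isField)

variable {F : Type*} [Field F] [Fintype F] {p ns : ℕ}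

/-- Decidable properties of the data. -/
structure CubicData (p ns d : ℕ) (Y T0 tau X Xi : List ℕ) : Prop where
  su : isSU p ns Y = true ∧ isSU p ns T0 = true
  seven : pM p ns Y 7 = I9 ∧ Y ≠ I9 ∧ ((List.range 9).all fun i => decide (Y.getD i 0 < p * p)) = true ∧
    Y.length = 9
  cyclic : dt p ns [1, ent Y 0 0, ent (mM p ns Y Y) 0 0, 0, ent Y 1 0, ent (mM p ns Y Y) 1 0,
    0, ent Y 2 0, ent (mM p ns Y Y) 2 0] ≠ 0
  conj : mM p ns T0 Y = mM p ns (mM p ns Y Y) T0
  trace : ((List.range 7).all fun j => tr p (pM p ns Y j) != tr p Y || [1, 2, 4].contains j) = true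
  comm : mM p ns tau Y = mM p ns Y tau
  unit : mM p ns (tp tau) (cjM p tau) = I9
  order : pM p ns tau (p ^ 3 + 1) = I9 ∧
    ∀ l ∈ (p ^ 3 + 1).primeFactorsList, pM p ns tau ((p ^ 3 + 1) / l) ≠ I9
  lt : ((List.range (p ^ 3 + 1)).all fun j =>
    (List.range 9).all fun i => decide ((pM p ns tau j).getD i 0 < p * p)) = true
  det : dt p ns (pM p ns tau d) = 1 ∧
    ((List.range d).all fun r => r == 0 || dt p ns (pM p ns tau r) != 1) = true
  witness : mM p ns X Xi = I9 ∧ mM p ns (mM p ns (mM p ns X Y) Xi) Y ≠ mM p ns Y (mM p ns (mM p ns X Y) Xi)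

variable (C : Coord F p ns)

theorem decM_inj {X Y : List ℕ} (hX : X.length = 9) (hY : Y.length = 9) (hX' : ∀ i, X.getD i 0 < p * p)
    (hY' : ∀ i, Y.getD i 0 < p * p) (h : decM C X = decM C Y) : X = Y := by
  refine List.ext_getElem (hX.trans hY.symm) fun i h1 h2 => ?_
  rw [← List.getD_eq_getElem _ 0 h1, ← List.getD_eq_getElem _ 0 h2]
  have h3 : i < 9 := hX ▸ h1
  have e := congrFun (congrFun h ⟨i / 3, by omega⟩) ⟨i % 3, Nat.mod_lt _ (by norm_num)⟩
  simp only [decM, Matrix.of_apply, ent, Nat.div_add_mod] at e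
  exact dec_inj C (hX' i) (hY' i) e

include C in
theorem I9_lt (i : ℕ) : I9.getD i 0 < p * p := by
  have h := Nat.one_lt_mul_iff.2 ⟨C.prime.pos, C.prime.pos, Or.inl C.prime.one_lt⟩
  by_cases hi : i < 9
  · interval_cases i <;> simp only [I9, List.getD_cons_zero, List.getD_cons_succ] <;> omega
  · rw [List.getD_eq_default _ _ (by simp [I9]; omega)]; omega

include C in
theorem mM_getD_lt (X Y : List ℕ) (i : ℕ) : (mM p ns X Y).getD i 0 < p * p := by
  have h := Nat.mul_pos C.prime.pos C.prime.pos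
  by_cases hi : i < 9
  · interval_cases i <;> exact ca_lt C _ _
  · rw [List.getD_eq_default _ _ (by simp [mM]; omega)]; omega

theorem decM_mul_ne {X Y Z W : List ℕ} (h : mM p ns X Y ≠ mM p ns Z W) :
    decM C X * decM C Y ≠ decM C Z * decM C W := fun e => h (by
  rw [← decM_mul, ← decM_mul] at e
  exact decM_inj C rfl rfl (mM_getD_lt C X Y) (mM_getD_lt C Z W) e)

include C in
/-- The order of the full unitary group has seven as a factor once. -/
theorem factorization_seven (hp : p = 3 ∨ p = 5) :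
    (Nat.card (Cfsg.GU 3 F p)).factorization 7 = 1 := by
  rw [CfsgLib.UnitaryOrder.card_GU C.card]
  have h : ∀ N : ℕ, N ≠ 0 → 7 ∣ N → ¬ 7 ^ 2 ∣ N → N.factorization 7 = 1 := fun N h0 h1 h2 => by
    have a := (Nat.Prime.pow_dvd_iff_le_factorization (p := 7) (k := 1) (by norm_num) h0).1 (by simpa)
    have b := mt (Nat.Prime.pow_dvd_iff_le_factorization (p := 7) (k := 2) (by norm_num) h0).2 h2
    omega
  apply h <;> rcases hp with rfl | rfl <;>
    simp [Finset.prod_range_succ, Nat.even_add_one]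

include C in
theorem cubic_conj (hp : p = 3 ∨ p = 5) {A : Subalgebra F (Matrix (Fin 3) (Fin 3) F)}
    (hA : IsFieldSubalgebra 3 A) (hAa : IsAdjointClosedFor (Cfsg.hermForm 3 F p) A) {y : GL (Fin 3) F}
    (hy : y ∈ Cfsg.GU 3 F p) (hyo : orderOf y = 7) :
    ∃ U, U ∈ Cfsg.GU 3 F p ∧ ((U * y * U⁻¹ : GL (Fin 3) F) : Matrix (Fin 3) (Fin 3) F) ∈ A := by
  classical
  haveI : Fact (Nat.Prime 7) := ⟨by norm_num⟩
  obtain ⟨σ, hσ, hf⟩ := exists_unitary_hermForm (n := 3) C.card
  obtain ⟨x, hxA, hxo, hxf⟩ := (norm_one_torus hf C.card hA hAa).2 7 (by norm_num)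
    (by rcases hp with rfl | rfl <;> norm_num)
  let x' : ↥(Cfsg.GU 3 F p) := ⟨x, hxf⟩
  let y' : ↥(Cfsg.GU 3 F p) := ⟨y, hy⟩
  have ho : orderOf x' = 7 := by rw [← Subgroup.orderOf_coe]; exact hxo
  have ho' : orderOf y' = 7 := by rw [← Subgroup.orderOf_coe]; exact hyo
  obtain ⟨g, hg⟩ := MulAction.exists_smul_eq (↥(Cfsg.GU 3 F p))
    (Sylow.ofCard (Subgroup.zpowers y') (by
      rw [Nat.card_zpowers, ho', factorization_seven C hp, pow_one]))
    (Sylow.ofCard (Subgroup.zpowers x') (by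
      rw [Nat.card_zpowers, ho, factorization_seven C hp, pow_one]))
  refine ⟨g, g.2, ?_⟩
  have h : g * y' * g⁻¹ ∈ Subgroup.zpowers x' := by
    have h2 : MulAut.conj g y' ∈ MulAut.conj g • Subgroup.zpowers y' :=
      Subgroup.smul_mem_pointwise_smul _ _ _ (Subgroup.mem_zpowers y')
    have h3 := congrArg (fun P : Sylow 7 ↥(Cfsg.GU 3 F p) => (P : Subgroup ↥(Cfsg.GU 3 F p))) hg
    simp only [Sylow.coe_subgroup_smul, Sylow.coe_ofCard] at h3
    rw [h3] at h2
    simpa using h2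
  obtain ⟨k, hk⟩ := (mem_powers_iff_mem_zpowers (x := x')).2 h
  have e : ((g : GL (Fin 3) F) * y * (g : GL (Fin 3) F)⁻¹) = x ^ k := by
    simpa using congrArg Subtype.val hk.symm
  rw [e, Units.val_pow_eq_pow_val]
  exact pow_mem hxA k

include C in
/-- Cubic field normalisers are not maximal. -/
theorem cubic_below {d : ℕ} {Y T0 tau X Xi : List ℕ} (hp : p = 3 ∨ p = 5) (hd : 0 < d)
    (D : CubicData p ns d Y T0 tau X Xi) {S mem img sc : List (List ℕ)} (hG : Good p ns S mem img sc)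
    (hTm : T0 ∈ mem) (htaum : pM p ns tau d ∈ mem) (hXm : X ∈ mem)
    {W : List ℕ} {i : ℕ} (hW : movesOut p ns S W i = true) (hWu : isSU p ns W = true)
    {A : Subalgebra F (Matrix (Fin 3) (Fin 3) F)} (hA : IsFieldSubalgebra 3 A)
    (hAa : IsAdjointClosedFor (Cfsg.hermForm 3 F p) A) :
    ∃ K, subalgebraNormalizer A ⊓ G3 p F < K ∧ K < G3 p F := by
  classical
  haveI : Fact (Nat.Prime 7) := ⟨by norm_num⟩
  obtain ⟨σ, hσ, hf⟩ := exists_unitary_hermForm (n := 3) C.card
  obtain ⟨y, hy, hyG⟩ := exists_su C D.su.1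
  obtain ⟨t, ht, htG, htS⟩ := hG.exists_mem C hTm
  obtain ⟨x, hx, hxG, hxS⟩ := hG.exists_mem C hXm
  obtain ⟨z, hz, hzG, hzS⟩ := hG.exists_mem C htaum
  obtain ⟨w, hwG, hwS⟩ := exists_not_mem C hW hWu
  have hyo : orderOf y = 7 := by
    refine orderOf_eq_prime (Units.ext ?_) fun e => D.seven.2.1 ?_
    · rw [Units.val_pow_eq_pow_val, hy, ← decM_pow, D.seven.1, decM_one, Units.val_one]
    · refine decM_inj C D.seven.2.2.2 rfl (fun j => ?_) (I9_lt C) ?_
      · by_cases hj : j < 9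
        · exact decide_eq_true_iff.1 (List.all_eq_true.1 D.seven.2.2.1 j (List.mem_range.2 hj))
        · rw [List.getD_eq_default _ _ (by rw [D.seven.2.2.2]; omega)]
          exact Nat.mul_pos C.prime.pos C.prime.pos
      · rw [← hy, e, Units.val_one, decM_one]
  obtain ⟨U, hU, hUy⟩ := cubic_conj C hp hA hAa hyG.1 hyo
  -- the torus
  have hval : ∀ (g : GL (Fin 3) F) (k : ℕ), U * g ^ k * U⁻¹ = (U * g * U⁻¹) ^ k := fun g k =>
    conj_pow.symm
  obtain ⟨τ, hτ⟩ : ∃ τ : GL (Fin 3) F, (τ : Matrix (Fin 3) (Fin 3) F) = decM C tau := by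
    refine ⟨Matrix.GeneralLinearGroup.mkOfDetNeZero (decM C tau) fun h0 => ?_, rfl⟩
    have h := congrArg Matrix.det (congrArg (decM C) D.unit)
    rw [decM_mul, decM_one, Matrix.det_mul, Matrix.det_one] at h
    have e : decM C (tp tau) = (decM C tau)ᵀ := by
      ext a b; fin_cases a <;> fin_cases b <;> simp [decM, tp, ent]
    rw [e, Matrix.det_transpose, h0, zero_mul] at h
    exact zero_ne_one h
  have hτpow : ∀ k, ((τ ^ k : GL (Fin 3) F) : Matrix (Fin 3) (Fin 3) F) = decM C (pM p ns tau k) :=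
    fun k => by rw [Units.val_pow_eq_pow_val, hτ, decM_pow]
  have hcomm : ∀ c : GL (Fin 3) F, c * y = y * c →
      ((U * c * U⁻¹ : GL (Fin 3) F) : Matrix (Fin 3) (Fin 3) F) ∈ A := by
    intro c hc
    let e : Fin 3 → F := (U : Matrix (Fin 3) (Fin 3) F) *ᵥ Pi.single 0 1
    refine mem_of_commute (e := e) (by rwa [Fintype.card_fin]) hUy ?_ (fun h0 => ?_) ?_
    · rw [← Units.val_mul, ← Units.val_mul]
      congr 1
      calc U * c * U⁻¹ * (U * y * U⁻¹) = U * (c * y) * U⁻¹ := by group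
        _ = U * y * U⁻¹ * (U * c * U⁻¹) := by rw [hc]; group
    · have := CfsgLib.Aschbacher.mulVec_injective U
        (show _ = (U : Matrix (Fin 3) (Fin 3) F) *ᵥ 0 by rw [Matrix.mulVec_zero]; exact h0)
      simpa using congrFun this 0
    · let B : Matrix (Fin 3) (Fin 3) F := Matrix.of fun a j =>
        ((y : Matrix (Fin 3) (Fin 3) F) ^ (j : ℕ) *ᵥ Pi.single 0 1) a
      have hB : B.det ≠ 0 := by
        have e' : B = decM C [1, ent Y 0 0, ent (mM p ns Y Y) 0 0, 0, ent Y 1 0,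
            ent (mM p ns Y Y) 1 0, 0, ent Y 2 0, ent (mM p ns Y Y) 2 0] := by
          ext a j
          show ((y : Matrix (Fin 3) (Fin 3) F) ^ (j : ℕ) *ᵥ Pi.single 0 1) a = _
          rw [Matrix.mulVec_single_one, hy]
          fin_cases j <;> simp [pow_two, ← decM_mul] <;> fin_cases a <;>
            simp [decM, ent, dec_zero, dec_one, Matrix.one_apply]
        rw [e', det_decM, ← dec_zero C]
        exact dec_ne C (ca_lt C _ _) (Nat.mul_pos C.prime.pos C.prime.pos) D.cyclic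
      refine eq_top_iff.2 fun v _ => ?_
      obtain ⟨c, hc⟩ : ∃ c, (U : Matrix (Fin 3) (Fin 3) F) *ᵥ (B *ᵥ c) = v := by
        obtain ⟨c, hc⟩ := Matrix.mulVec_surjective_iff_isUnit.2
          ((Matrix.isUnit_iff_isUnit_det _).2 hB.isUnit)
          (((U⁻¹ : GL (Fin 3) F) : Matrix (Fin 3) (Fin 3) F) *ᵥ v)
        exact ⟨c, by rw [hc, CfsgLib.Aschbacher.mulVec_inv_cancel]⟩
      rw [← hc, Matrix.mulVec_eq_sum c B, Matrix.mulVec_sum]
      refine sum_mem fun j _ => ?_
      rw [op_smul_eq_smul, Matrix.mulVec_smul]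
      refine Submodule.smul_mem _ _ (Submodule.subset_span ⟨j, ?_⟩)
      show ((U * y * U⁻¹ : GL (Fin 3) F) : Matrix (Fin 3) (Fin 3) F) ^ (j : ℕ) *ᵥ e = _
      rw [← Units.val_pow_eq_pow_val, ← hval, Units.val_mul, Units.val_mul, Units.val_pow_eq_pow_val]
      simp only [e, Matrix.mulVec_mulVec, mul_assoc, Units.inv_mul, mul_one]
      rw [← Matrix.mulVec_mulVec]
      rfl
  have hτA : ((U * τ * U⁻¹ : GL (Fin 3) F) : Matrix (Fin 3) (Fin 3) F) ∈ A := hcomm τ (Units.ext (by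
    rw [Units.val_mul, Units.val_mul, hτ, hy, ← decM_mul, ← decM_mul, D.comm]))
  have hτo : orderOf (U * τ * U⁻¹) = p ^ 3 + 1 := by
    rw [show U * τ * U⁻¹ = MulAut.conj U τ from rfl, MulEquiv.orderOf_eq]
    refine orderOf_eq_of_pow_and_pow_div_prime (by positivity)
      (Units.ext (by rw [hτpow, D.order.1, decM_one, Units.val_one])) fun l hl hld e => ?_
    refine D.order.2 l ((Nat.mem_primeFactorsList (by positivity)).2 ⟨hl, hld⟩) ?_
    have hlt : (p ^ 3 + 1) / l < p ^ 3 + 1 := Nat.div_lt_self (by positivity) hl.one_lt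
    have hr : ∀ j, (pM p ns tau j).length = 9 := fun j => by cases j <;> rfl
    refine decM_inj C (hr _) rfl (fun j => ?_) (I9_lt C) ?_
    · by_cases hj : j < 9
      · exact decide_eq_true_iff.1 (List.all_eq_true.1
          (List.all_eq_true.1 D.lt _ (List.mem_range.2 hlt)) j (List.mem_range.2 hj))
      · rw [List.getD_eq_default _ _ (by rw [hr]; omega)]
        exact Nat.mul_pos C.prime.pos C.prime.pos
    · rw [← hτpow, e, Units.val_one, decM_one]
  have hback : ∀ g : GL (Fin 3) F, ((U * g * U⁻¹ : GL (Fin 3) F) : Matrix (Fin 3) (Fin 3) F) ∈ A →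
      g ∈ G3 p F → g ∈ stab C S := by
    intro g hgA hgG
    have hgf := (conj_mem_G3 hU hgG).2
    obtain ⟨j, hj⟩ := (mem_powers_iff_mem_zpowers (x := U * τ * U⁻¹)).2
      (mem_zpowers_of_pow_eq_one hA hτA hgA (by positivity) hτo
        ((norm_one_torus hf C.card hA hAa).1 _ hgA hgf.1))
    have hg : g = τ ^ j := by
      have h : U * g * U⁻¹ = U * τ ^ j * U⁻¹ := by rw [hval]; exact hj.symm
      simpa using h
    have hd1 : (decM C (pM p ns tau d)).det = 1 := by rw [det_decM, D.det.1, dec_one]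
    have hr : j % d = 0 := by
      by_contra hne
      have hdet := congrArg Units.val (MonoidHom.mem_ker.1 hgG.2)
      rw [Matrix.GeneralLinearGroup.val_det_apply, hg, ← Nat.mod_add_div j d, pow_add, pow_mul,
        Units.val_mul, Units.val_pow_eq_pow_val (τ ^ d), hτpow, hτpow, Matrix.det_mul,
        Matrix.det_pow, hd1, one_pow, mul_one, det_decM, Units.val_one] at hdet
      have h := List.all_eq_true.1 D.det.2 _ (List.mem_range.2 (Nat.mod_lt j hd))
      rw [Bool.or_eq_true, beq_iff_eq, bne_iff_ne] at h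
      exact h.resolve_left hne (dec_inj C (ca_lt C _ _)
        (Nat.one_lt_mul_iff.2 ⟨C.prime.pos, C.prime.pos, Or.inl C.prime.one_lt⟩)
        (hdet.trans (dec_one C).symm))
    rw [hg, ← Nat.mod_add_div j d, hr, zero_add, pow_mul,
      show τ ^ d = z from Units.ext ((hτpow d).trans hz.symm)]
    exact pow_mem hzS _
  refine between hU inf_le_right (M := stab C S) ?_ hxG hxS ?_ hwG hwS
  · rintro g ⟨hgN, hgG⟩
    obtain ⟨g', hg'⟩ : ∃ g', U⁻¹ * g * U = g' := ⟨_, rfl⟩
    have hg'G : g' ∈ G3 p F := hg' ▸ (conj_mem_G3 hU hgG).1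
    have hg : g = U * g' * U⁻¹ := by rw [← hg']; group
    rw [hg']
    -- the image of the generator
    have himg : ((U * (g' * y * g'⁻¹) * U⁻¹ : GL (Fin 3) F) : Matrix (Fin 3) (Fin 3) F) ∈ A := by
      rw [show U * (g' * y * g'⁻¹) * U⁻¹ = g * (U * y * U⁻¹) * g⁻¹ by rw [hg]; group, Units.val_mul,
        Units.val_mul]
      exact (hgN _).1 hUy
    have hyo' : orderOf (U * y * U⁻¹) = 7 := by
      rw [show U * y * U⁻¹ = MulAut.conj U y from rfl, MulEquiv.orderOf_eq, hyo]
    have h7 : (U * (g' * y * g'⁻¹) * U⁻¹) ^ 7 = 1 := by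
      have hy7 : y ^ 7 = 1 := hyo ▸ pow_orderOf_eq_one y
      rw [conj_pow, conj_pow, hy7]
      group
    obtain ⟨a, ha⟩ := (mem_powers_iff_mem_zpowers (x := U * y * U⁻¹)).2
      (mem_zpowers_of_pow_eq_one hA hUy himg (by norm_num) hyo' h7)
    have ha' : g' * y * g'⁻¹ = y ^ (a % 7) := by
      have h : U * (g' * y * g'⁻¹) * U⁻¹ = U * y ^ (a % 7) * U⁻¹ := by
        rw [hval, ← ha]
        conv_rhs => rw [← hyo', pow_mod_orderOf]
      simpa using h
    have htr : tr p (pM p ns Y (a % 7)) = tr p Y := by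
      refine dec_inj C (ca_lt C _ _) (ca_lt C _ _) ?_
      rw [← trace_decM, ← trace_decM, decM_pow, ← hy, ← Units.val_pow_eq_pow_val, ← ha']
      exact CfsgLib.Aschbacher.trace_conj g' y
    have hty : t * y * t⁻¹ = y ^ 2 := by
      rw [mul_inv_eq_iff_eq_mul]
      refine Units.ext ?_
      rw [Units.val_mul, Units.val_mul, Units.val_pow_eq_pow_val, ht, hy, pow_two, ← decM_mul,
        ← decM_mul, ← decM_mul, D.conj]
    obtain ⟨b, hb⟩ : ∃ b : ℕ, t ^ b * y * (t ^ b)⁻¹ = y ^ (a % 7) := by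
      have h := List.all_eq_true.1 D.trace _ (List.mem_range.2 (Nat.mod_lt a (by norm_num : 7 > 0)))
      simp only [Bool.or_eq_true, bne_iff_ne, List.contains_iff_mem, List.mem_cons,
        List.not_mem_nil, or_false] at h
      rcases h.resolve_left (fun hne => hne htr) with e | e | e <;> rw [e]
      · exact ⟨0, by simp⟩
      · exact ⟨1, by simpa using hty⟩
      · refine ⟨2, ?_⟩
        rw [show t ^ 2 * y * (t ^ 2)⁻¹ = t * (t * y * t⁻¹) * t⁻¹ by
          rw [pow_two, _root_.mul_inv_rev, ← mul_assoc, ← mul_assoc, ← mul_assoc], hty, ← conj_pow, hty,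
          ← pow_mul]
    have hc : (t ^ b)⁻¹ * g' * y = y * ((t ^ b)⁻¹ * g') := by
      calc (t ^ b)⁻¹ * g' * y = (t ^ b)⁻¹ * (g' * y * g'⁻¹) * g' := by group
        _ = (t ^ b)⁻¹ * (t ^ b * y * (t ^ b)⁻¹) * g' := by rw [ha', hb]
        _ = y * ((t ^ b)⁻¹ * g') := by group
    have h1 := hback _ (hcomm _ hc) (mul_mem (inv_mem (pow_mem htG b)) hg'G)
    simpa using mul_mem (pow_mem htS b) h1
  · rintro ⟨hN, -⟩
    have h := (hN _).1 hUy
    rw [← Units.val_mul, ← Units.val_mul,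
      show U * x * U⁻¹ * (U * y * U⁻¹) * (U * x * U⁻¹)⁻¹ = U * (x * y * x⁻¹) * U⁻¹ by group] at h
    have hc := hA.comm _ h _ hUy
    rw [← Units.val_mul, ← Units.val_mul] at hc
    have hc' : x * y * x⁻¹ * y = y * (x * y * x⁻¹) := by
      have h2 := Units.ext hc
      rw [show U * (x * y * x⁻¹) * U⁻¹ * (U * y * U⁻¹) = U * (x * y * x⁻¹ * y) * U⁻¹ by group,
        show U * y * U⁻¹ * (U * (x * y * x⁻¹) * U⁻¹) = U * (y * (x * y * x⁻¹)) * U⁻¹ by group] at h2
      simpa using h2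
    have hxi : ((x⁻¹ : GL (Fin 3) F) : Matrix (Fin 3) (Fin 3) F) = decM C Xi := by
      have h2 := congrArg (decM C) D.witness.1
      rw [decM_mul, decM_one, ← hx] at h2
      calc ((x⁻¹ : GL (Fin 3) F) : Matrix (Fin 3) (Fin 3) F)
          = ((x⁻¹ : GL (Fin 3) F) : Matrix (Fin 3) (Fin 3) F) * (↑x * decM C Xi) := by rw [h2, mul_one]
        _ = decM C Xi := by rw [← mul_assoc, Units.inv_mul, one_mul]
    refine decM_mul_ne C D.witness.2 ?_
    have e := congrArg Units.val hc'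
    simp only [Units.val_mul, hx, hy, hxi] at e
    simp only [decM_mul]
    exact e

end CfsgLib.MaxSub.SUThree
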