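/-! Explicit data for the unitary group in dimension three over 9 elements; `x` codes `x % 3 + (x / 3) s`, `s * s = 2`. -/

set_option autoImplicit false

namespace CfsgLib.MaxSub.SUThree.Three

/-- `A` -/
def A : List Nat := [2, 0, 0, 0, 2, 0, 0, 0, 1]

/-- `B` -/
def B : List Nat := [1, 0, 0, 0, 2, 0, 0, 0, 2]

/-- `Y` -/
def Y : List Nat := [1, 1, 5, 4, 8, 0, 1, 1, 7]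

/-- `T0` -/
def T0 : List Nat := [0, 0, 1, 2, 0, 0, 0, 2, 0]

/-- `tau` -/
def tau : List Nat := [4, 6, 6, 4, 3, 3, 0, 5, 7]

/-- `W3` -/
def W3 : List Nat := [0, 0, 1, 0, 3, 0, 3, 0, 0]

/-- `perms` -/
noncomputable def perms : List (List Nat) := [[1, 0, 0, 0, 1, 0, 0, 0, 1],
  [2, 0, 0, 0, 0, 2, 0, 2, 0],
  [0, 2, 0, 2, 0, 0, 0, 0, 2],
  [0, 0, 1, 1, 0, 0, 0, 1, 0],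
  [0, 1, 0, 0, 0, 1, 1, 0, 0],
  [0, 0, 2, 0, 2, 0, 2, 0, 0]]

/-- Points. -/
noncomputable def S3 : List (List Nat) := [[0, 0, 1],
  [0, 1, 0],
  [0, 1, 1],
  [0, 1, 2],
  [1, 0, 0],
  [1, 0, 1],
  [1, 0, 2],
  [1, 1, 0],
  [1, 1, 4],
  [1, 1, 8],
  [1, 2, 0],
  [1, 2, 4],
  [1, 2, 8],
  [1, 4, 1],
  [1, 4, 2],
  [1, 5, 5],
  [1, 5, 7],
  [1, 7, 5],
  [1, 7, 7],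
  [1, 8, 1],
  [1, 8, 2]]

/-- Members. -/
noncomputable def mem3 : List (List Nat) := [[2, 0, 0, 0, 2, 0, 0, 0, 1],
  [1, 0, 0, 0, 2, 0, 0, 0, 2],
  [0, 0, 1, 2, 0, 0, 0, 2, 0],
  [1, 1, 5, 4, 8, 0, 1, 1, 7],
  [1, 1, 5, 4, 8, 0, 1, 1, 7],
  [1, 0, 0, 0, 1, 0, 0, 0, 1],
  [2, 0, 0, 0, 0, 2, 0, 2, 0],
  [0, 2, 0, 2, 0, 0, 0, 0, 2],
  [0, 0, 1, 1, 0, 0, 0, 1, 0],
  [0, 1, 0, 0, 0, 1, 1, 0, 0],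
  [0, 0, 2, 0, 2, 0, 2, 0, 0],
  [1, 0, 0, 0, 0, 2, 0, 1, 0],
  [1, 0, 0, 0, 0, 1, 0, 2, 0]]

/-- Images. -/
noncomputable def img3 : List (List Nat) := [[0, 1, 3, 2, 4, 6, 5, 7, 9, 8, 10, 12, 11, 14, 13, 16, 15, 18, 17, 20, 19],
  [0, 1, 2, 3, 4, 6, 5, 10, 12, 11, 7, 9, 8, 20, 19, 18, 17, 16, 15, 14, 13],
  [4, 0, 6, 5, 1, 10, 7, 2, 18, 15, 3, 17, 16, 12, 8, 20, 13, 19, 14, 11, 9],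
  [6, 19, 15, 8, 13, 17, 11, 5, 0, 4, 1, 20, 14, 7, 2, 10, 3, 18, 9, 12, 16],
  [6, 19, 15, 8, 13, 17, 11, 5, 0, 4, 1, 20, 14, 7, 2, 10, 3, 18, 9, 12, 16],
  [0, 1, 2, 3, 4, 5, 6, 7, 8, 9, 10, 11, 12, 13, 14, 15, 16, 17, 18, 19, 20],
  [1, 0, 2, 3, 4, 7, 10, 5, 13, 19, 6, 14, 20, 8, 11, 15, 17, 16, 18, 9, 12],
  [0, 4, 5, 6, 1, 2, 3, 7, 8, 9, 10, 12, 11, 15, 16, 13, 14, 20, 19, 18, 17],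
  [4, 0, 5, 6, 1, 7, 10, 2, 15, 18, 3, 16, 17, 8, 12, 13, 20, 14, 19, 9, 11],
  [1, 4, 7, 10, 0, 2, 3, 5, 13, 19, 6, 20, 14, 15, 17, 8, 11, 12, 9, 18, 16],
  [4, 1, 7, 10, 0, 5, 6, 2, 15, 18, 3, 17, 16, 13, 20, 8, 12, 11, 9, 19, 14],
  [1, 0, 3, 2, 4, 10, 7, 5, 19, 13, 6, 20, 14, 11, 8, 17, 15, 18, 16, 12, 9],
  [1, 0, 3, 2, 4, 7, 10, 6, 14, 20, 5, 13, 19, 9, 12, 16, 18, 15, 17, 8, 11]]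

/-- Factors. -/
noncomputable def sc3 : List (List Nat) := [[1, 2, 2, 2, 2, 2, 2, 2, 2, 2, 2, 2, 2, 2, 2, 2, 2, 2, 2, 2, 2],
  [2, 2, 2, 2, 1, 1, 1, 1, 1, 1, 1, 1, 1, 1, 1, 1, 1, 1, 1, 1, 1],
  [1, 2, 1, 2, 2, 1, 2, 2, 4, 8, 2, 4, 8, 1, 2, 5, 7, 5, 7, 1, 2],
  [5, 1, 3, 8, 1, 3, 8, 2, 1, 1, 8, 1, 2, 7, 7, 6, 3, 2, 5, 2, 4],
  [5, 1, 3, 8, 1, 3, 8, 2, 1, 1, 8, 1, 2, 7, 7, 6, 3, 2, 5, 2, 4],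
  [1, 1, 1, 1, 1, 1, 1, 1, 1, 1, 1, 1, 1, 1, 1, 1, 1, 1, 1, 1, 1],
  [2, 2, 2, 1, 2, 2, 2, 2, 2, 2, 2, 2, 2, 2, 2, 2, 2, 2, 2, 2, 2],
  [2, 2, 2, 2, 2, 2, 2, 2, 2, 2, 1, 1, 1, 8, 8, 7, 7, 5, 5, 4, 4],
  [1, 1, 1, 2, 1, 1, 2, 1, 4, 8, 1, 4, 8, 1, 2, 5, 7, 5, 7, 1, 2],
  [1, 1, 1, 1, 1, 1, 2, 1, 1, 1, 2, 2, 2, 4, 4, 5, 5, 7, 7, 8, 8],
  [2, 2, 2, 1, 2, 2, 1, 2, 8, 4, 1, 8, 4, 2, 1, 7, 5, 7, 5, 2, 1],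
  [2, 1, 2, 1, 1, 1, 1, 1, 1, 1, 1, 1, 1, 1, 1, 1, 1, 1, 1, 1, 1],
  [1, 2, 1, 2, 1, 1, 1, 1, 1, 1, 1, 1, 1, 1, 1, 1, 1, 1, 1, 1, 1]]

/-- A moved point. -/
def wi3 : Nat := 2

/-- Coefficients. -/
def tauC : List Nat := [0, 0, 3]

end CfsgLib.MaxSub.SUThree.Three
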