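/-
The normaliser of an extraspecial group of order twenty seven in `SU_3(5)` lies in the stabiliser of a coded
set of points.
-/
import Cfsg.Agent.Lib.MaxSub.SUThree.Basic

set_option autoImplicit false
set_option maxHeartbeats 1000000
set_option linter.unusedSectionVars false
set_option linter.style.haveILetI false

namespace CfsgLib.MaxSub.SUThree

open Matrix Cfsg Cfsg.Geo CfsgLib.Heis27

/-- A diagonal code. -/
def diagC (a b c : ℕ) : List ℕ := [a, 0, 0, 0, b, 0, 0, 0, c]

/-- The unit codes. -/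
def unitC (p ns : ℕ) : List ℕ := (List.range (p * p)).filter fun a => cm p ns a (cj p a) == 1

/-- Decidable properties of the data. -/
structure NormData (p ns : ℕ) (L reps mem : List (List ℕ)) (D T Z : List ℕ) : Prop where
  roots : ((List.range (p * p)).all fun z => !(cm p ns (cm p ns z z) z == 1 && z != 1) ||
    L.contains [1, 0, 0, 0, z, 0, 0, 0, cm p ns z z]) = true
  cyc : L.contains [0, 0, 1, 1, 0, 0, 0, 1, 0] = true
  one : L.contains I9 = true
  len : L.length = 27
  closed : (L.all fun X => L.all fun Y => L.contains (mM p ns X Y)) = true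
  DT : (L.contains D && L.contains T && mem.contains D && mem.contains Z &&
    reps.all fun n => mem.contains n) = true
  dist : (D == [ent D 0 0, 0, 0, 0, ent D 1 1, 0, 0, 0, ent D 2 2] && ent D 0 0 != ent D 1 1 &&
    ent D 0 0 != ent D 2 2 && ent D 1 1 != ent D 2 2 && decide (ent D 0 0 < p * p) &&
    decide (ent D 1 1 < p * p) && decide (ent D 2 2 < p * p)) = true
  trans : (L.all fun X => (ent X 0 1 == 0 && ent X 0 2 == 0 && ent X 1 0 == 0 && ent X 1 2 == 0 &&
    ent X 2 0 == 0 && ent X 2 1 == 0 && ent X 0 0 == ent X 1 1 && ent X 0 0 == ent X 2 2) ||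
    reps.any fun n => mM p ns n D == mM p ns X n) = true
  back : (reps.all fun n => L.all fun X => (L.map (mM p ns n)).contains (mM p ns X n)) = true
  diag : ((unitC p ns).all fun a => (unitC p ns).all fun b => (unitC p ns).all fun c =>
    !(cm p ns (cm p ns a b) c == 1) ||
      (L.all fun X => mM p ns (diagC a b c) T != mM p ns X (diagC a b c)) ||
      (List.range 3).any fun i => (List.range 3).any fun j =>
        diagC a b c == mM p ns (pM p ns D i) (pM p ns Z j)) = true

variable {F : Type*} [Field F] [Fintype F] {p ns : ℕ} (C : Coord F p ns)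

include C in
/-- A group of order twenty seven in unitary coordinates. -/
theorem std_image {L reps mem : List (List ℕ)} {D T Z : List ℕ} (N : NormData p ns L reps mem D T Z)
    {R : Subgroup (GL (Fin 3) F)} {g : GL (Fin 3) F} {ω : F} (hR : Nat.card R = 27)
    (h : IsStd R g ω) :
    (∀ r ∈ R, ∃ X ∈ L, ((g⁻¹ * r * g : GL (Fin 3) F) : Matrix (Fin 3) (Fin 3) F) = decM C X) ∧
    ∀ X ∈ L, ∃ r ∈ R, ((g⁻¹ * r * g : GL (Fin 3) F) : Matrix (Fin 3) (Fin 3) F) = decM C X := by
  classical
  obtain ⟨hω, a, b, hgen, ha, hb⟩ := h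
  have hsub : ∀ r ∈ R, ∃ X ∈ L, ((g⁻¹ * r * g : GL (Fin 3) F) : Matrix (Fin 3) (Fin 3) F) = decM C X := by
    have haL : ∃ X ∈ L, ((g⁻¹ * a * g : GL (Fin 3) F) : Matrix (Fin 3) (Fin 3) F) = decM C X := by
      obtain ⟨z, hz, rfl⟩ := exists_code C ω
      have h1 : z ≠ 1 := fun e => hω.ne_one (by norm_num) (by rw [e, dec_one])
      have h3 : cm p ns (cm p ns z z) z = 1 := dec_inj C (cm_lt C _ _)
        (Nat.one_lt_mul_iff.2 ⟨C.prime.pos, C.prime.pos, Or.inl C.prime.one_lt⟩) (by
          rw [dec_cm, dec_cm, dec_one, ← sq, ← pow_succ, hω.pow_eq_one])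
      have hk := List.all_eq_true.1 N.roots z (List.mem_range.2 hz)
      simp only [h3, beq_self_eq_true, Bool.true_and, Bool.or_eq_true, Bool.not_eq_true',
        bne_eq_false_iff_eq, List.contains_iff_mem] at hk
      refine ⟨_, hk.resolve_left h1, ?_⟩
      rw [ha]
      ext i j
      fin_cases i <;> fin_cases j <;>
        simp [aMat, decM, ent, dec_zero, dec_one, dec_cm, sq]
    have hbL : ∃ X ∈ L, ((g⁻¹ * b * g : GL (Fin 3) F) : Matrix (Fin 3) (Fin 3) F) = decM C X := by
      refine ⟨_, List.contains_iff_mem.1 N.cyc, ?_⟩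
      rw [hb]
      ext i j
      fin_cases i <;> fin_cases j <;> simp [bMat, decM, ent, dec_zero, dec_one]
    intro r hr
    rw [hgen] at hr
    induction hr using Subgroup.closure_induction'' with
    | mem x hx =>
      rcases hx with rfl | rfl
      exacts [haL, hbL]
    | inv_mem x hx =>
      have hpow : ∀ k : ℕ, ∀ x : GL (Fin 3) F,
          (∃ X ∈ L, ((g⁻¹ * x * g : GL (Fin 3) F) : Matrix (Fin 3) (Fin 3) F) = decM C X) →
          ∃ X ∈ L, ((g⁻¹ * x ^ k * g : GL (Fin 3) F) : Matrix (Fin 3) (Fin 3) F) = decM C X := by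
        intro k x hx
        induction k with
        | zero =>
          refine ⟨_, List.contains_iff_mem.1 N.one, ?_⟩
          rw [pow_zero, mul_one, inv_mul_cancel, decM_one, Units.val_one]
        | succ k ih =>
          obtain ⟨X, hX, eX⟩ := ih
          obtain ⟨Y, hY, eY⟩ := hx
          refine ⟨_, List.contains_iff_mem.1 (List.all_eq_true.1 (List.all_eq_true.1 N.closed X hX) Y hY), ?_⟩
          rw [decM_mul, ← eX, ← eY, ← Units.val_mul]
          congr 1
          rw [pow_succ]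
          group
      rw [show x⁻¹ = x ^ (orderOf x - 1) from inv_eq_of_mul_eq_one_right (by
        rw [← pow_succ', Nat.sub_add_cancel (orderOf_pos x), pow_orderOf_eq_one])]
      refine hpow _ x ?_
      rcases hx with rfl | rfl
      exacts [haL, hbL]
    | one =>
      refine ⟨_, List.contains_iff_mem.1 N.one, ?_⟩
      rw [mul_one, inv_mul_cancel, decM_one, Units.val_one]
    | mul x y _ _ hx hy =>
      obtain ⟨X, hX, eX⟩ := hx
      obtain ⟨Y, hY, eY⟩ := hy
      refine ⟨_, List.contains_iff_mem.1 (List.all_eq_true.1 (List.all_eq_true.1 N.closed X hX) Y hY), ?_⟩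
      rw [decM_mul, ← eX, ← eY, ← Units.val_mul]
      congr 1
      group
  refine ⟨hsub, ?_⟩
  choose f hfL hf using fun r : R => hsub r r.2
  have hinj : Function.Injective f := by
    intro r s e
    have he : decM C (f r) = decM C (f s) := congrArg (decM C) e
    rw [← hf r, ← hf s] at he
    exact Subtype.ext (mul_left_cancel (mul_right_cancel (Units.ext he)))
  intro X hX
  haveI : Fintype R := Fintype.ofFinite _
  have himg : Finset.univ.image f = L.toFinset := by
    refine Finset.eq_of_subset_of_card_le (fun Y hY => ?_) ?_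
    · obtain ⟨r, -, rfl⟩ := Finset.mem_image.1 hY
      exact List.mem_toFinset.2 (hfL r)
    · rw [Finset.card_image_of_injective _ hinj, Finset.card_univ, ← Nat.card_eq_fintype_card, hR]
      exact (List.toFinset_card_le L).trans N.len.le
  obtain ⟨r, -, rfl⟩ := Finset.mem_image.1 (himg.ge (List.mem_toFinset.2 hX))
  exact ⟨r, r.2, hf r⟩

include C in
/-- Such a normaliser is not maximal. -/
theorem norm_below {S mem img sc : List (List ℕ)} (hG : Good p ns S mem img sc)
    {L reps : List (List ℕ)} {D T Z : List ℕ} (N : NormData p ns L reps mem D T Z)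
    {t : List ℕ} (ht : t ∈ mem) (htD : (L.all fun X => mM p ns t D != mM p ns X t) = true)
    {W : List ℕ} {i : ℕ} (hW : movesOut p ns S W i = true) (hWu : isSU p ns W = true)
    (hp3 : 3 ∣ p + 1) {R : Subgroup (GL (Fin 3) F)} (hsim : R ≤ similarityGroup (Cfsg.hermForm 3 F p))
    (hR : Nat.card R = 27) (hRe : Monoid.exponent R = 3) (hRc : Nat.card (Subgroup.center R) = 3) :
    ∃ K, subgroupNormalizer R ⊓ G3 p F < K ∧ K < G3 p F := by
  classical
  haveI := C.charP
  haveI : Fact p.Prime := ⟨C.prime⟩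
  have h3 : (3 : F) ≠ 0 := fun e => by
    have h := (Nat.prime_dvd_prime_iff_eq C.prime Nat.prime_three).1
      ((CharP.cast_eq_zero_iff F p 3).1 (by exact_mod_cast e))
    omega
  have hmod : p % 3 = 2 := by omega
  -- the group preserves the form
  have hRU : R ≤ Cfsg.GU 3 F p := by
    intro r hr u v
    obtain ⟨c, hc⟩ := hsim hr
    have hr3 : r * (r * r) = 1 := by
      have h := Monoid.pow_exponent_eq_one (⟨r, hr⟩ : R)
      rw [hRe] at h
      have := congrArg Subtype.val h
      rw [SubmonoidClass.coe_pow, Subgroup.coe_one] at this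
      rwa [show r * (r * r) = r ^ 3 by rw [pow_succ, pow_two]; group]
    have e0 : hh p (Pi.single (0 : Fin 3) (1 : F)) (Pi.single (0 : Fin 3) (1 : F)) = 1 := by
      rw [hh, CfsgLib.UnitaryOrder.herm_single_right C.card]; simp
    have hc3 : (c : F) ^ 3 = 1 := by
      have h := congrArg (fun x : GL (Fin 3) F => hh p ((x : Matrix (Fin 3) (Fin 3) F) *ᵥ Pi.single 0 1)
        ((x : Matrix (Fin 3) (Fin 3) F) *ᵥ Pi.single 0 1)) hr3
      simp only [Units.val_mul, ← Matrix.mulVec_mulVec, hh, hc, Units.val_one, Matrix.one_mulVec] at h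
      rw [show Cfsg.hermForm 3 F p (Pi.single (0 : Fin 3) (1 : F)) (Pi.single (0 : Fin 3) (1 : F)) = 1
        from e0] at h
      linear_combination h
    have hcp : (c : F) ^ p = (c : F) := by
      have h := hh_swap C.card ((r : Matrix (Fin 3) (Fin 3) F) *ᵥ Pi.single 0 1)
        ((r : Matrix (Fin 3) (Fin 3) F) *ᵥ Pi.single 0 1)
      simp only [hh, hc] at h
      rw [show Cfsg.hermForm 3 F p (Pi.single (0 : Fin 3) (1 : F)) (Pi.single (0 : Fin 3) (1 : F)) = 1
        from e0, mul_one] at h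
      exact h
    obtain ⟨k, hk⟩ : ∃ k, p = 3 * k + 2 := ⟨p / 3, by omega⟩
    rw [hk, pow_add, pow_mul, hc3, one_pow, one_mul] at hcp
    have hc1 : (c : F) = 1 := mul_left_cancel₀ c.ne_zero (by rw [← sq, hcp, mul_one])
    show Cfsg.hermForm 3 F p ((r : Matrix (Fin 3) (Fin 3) F) *ᵥ u) ((r : Matrix (Fin 3) (Fin 3) F) *ᵥ v) = _
    rw [hc u v, hc1, one_mul]
  have hna : ¬ IsMulCommutative R := fun hcm => by
    haveI := hcm
    rw [show Subgroup.center R = ⊤ from eq_top_iff.2 fun x _ => Subgroup.mem_center_iff.2 fun y =>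
      IsMulCommutative.is_comm.comm y x, Subgroup.card_top, hR] at hRc
    omega
  obtain ⟨ζ, hζ⟩ : ∃ ζ : F, IsPrimitiveRoot ζ 3 := by
    haveI : Fact (Nat.Prime 3) := ⟨Nat.prime_three⟩
    obtain ⟨x, hx⟩ := exists_prime_orderOf_dvd_card (G := Fˣ) 3 (by
      rw [Fintype.card_units, C.card]
      obtain ⟨m, hm⟩ := hp3
      have : p ^ 2 - 1 = (p + 1) * (p - 1) := by rw [← Nat.sq_sub_sq, one_pow]
      rw [this]
      exact (dvd_mul_of_dvd_left ⟨m, hm⟩ _))
    refine ⟨x, ?_⟩
    rw [← hx, ← orderOf_units]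
    exact IsPrimitiveRoot.orderOf _
  obtain ⟨g, ω, hg, hstd⟩ := exists_std_unitary C.card h3 hζ hp3 R hRU hR hRe hna
  obtain ⟨himg, hpre⟩ := std_image C N hR hstd
  obtain ⟨hDTm, hrm⟩ : (((D ∈ L ∧ T ∈ L) ∧ D ∈ mem) ∧ Z ∈ mem) ∧ ∀ n ∈ reps, n ∈ mem := by
    simpa [Bool.and_eq_true, List.all_eq_true] using N.DT
  obtain ⟨⟨⟨hDL, hTL⟩, hDm⟩, hZm⟩ := hDTm
  -- conjugation by a normalising element permutes the codes
  have hconj : ∀ h ∈ subgroupNormalizer R, ∀ X ∈ L, ∃ Y ∈ L,
      ((g⁻¹ * h * g : GL (Fin 3) F) : Matrix (Fin 3) (Fin 3) F) * decM C X =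
        decM C Y * ((g⁻¹ * h * g : GL (Fin 3) F) : Matrix (Fin 3) (Fin 3) F) := by
    intro h hh X hX
    obtain ⟨r, hr, er⟩ := hpre X hX
    obtain ⟨Y, hY, eY⟩ := himg _ ((Subgroup.mem_normalizer_iff.1 hh r).1 hr)
    refine ⟨Y, hY, ?_⟩
    rw [← er, ← eY, ← Units.val_mul, ← Units.val_mul]
    congr 1
    group
  obtain ⟨w, hwG, hwS⟩ := exists_not_mem C hW hWu
  obtain ⟨x₀, hx₀, hx₀G, hx₀S⟩ := hG.exists_mem C ht
  refine between hg inf_le_right (M := stab C S) ?_ hx₀G hx₀S ?_ hwG hwS
  · rintro h ⟨hh, hhG⟩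
    obtain ⟨x, hxdef⟩ : ∃ x, x = g⁻¹ * h * g := ⟨_, rfl⟩
    rw [← hxdef]
    have hxG : x ∈ G3 p F := hxdef ▸ (conj_mem_G3 hg hhG).1
    obtain ⟨X, hX, eX⟩ := hconj h hh D hDL
    rw [← hxdef] at eX
    have hd := N.dist
    simp only [Bool.and_eq_true, beq_iff_eq, bne_iff_ne, decide_eq_true_iff] at hd
    obtain ⟨⟨⟨⟨⟨⟨hDe, d01⟩, d02⟩, d12⟩, l0⟩, l1⟩, l2⟩ := hd
    obtain ⟨dd, hdd⟩ : ∃ dd : Fin 3 → ℕ, dd = ![ent D 0 0, ent D 1 1, ent D 2 2] := ⟨_, rfl⟩
    have hDd : decM C D = Matrix.diagonal fun i => dec C (dd i) := by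
      rw [hdd]
      conv_lhs => rw [hDe]
      ext i j
      fin_cases i <;> fin_cases j <;> simp [decM, ent, dec_zero]
    have hne : ∀ i j, i ≠ j → dec C (dd i) ≠ dec C (dd j) := by
      intro i j hij
      rw [hdd]
      fin_cases i <;> fin_cases j <;> simp at hij ⊢ <;>
        first
          | exact dec_ne C l0 l1 d01
          | exact dec_ne C l0 l2 d02
          | exact dec_ne C l1 l2 d12
          | exact (dec_ne C l0 l1 d01).symm
          | exact (dec_ne C l0 l2 d02).symm
          | exact (dec_ne C l1 l2 d12).symm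
    have htr := List.all_eq_true.1 N.trans X hX
    rw [Bool.or_eq_true, List.any_eq_true] at htr
    rcases htr with hsc | ⟨n, hn, en⟩
    · exfalso
      simp only [Bool.and_eq_true, beq_iff_eq] at hsc
      obtain ⟨⟨⟨⟨⟨⟨⟨e01, e02⟩, e10⟩, e12⟩, e20⟩, e21⟩, e11⟩, e22⟩ := hsc
      have hXs : decM C X = dec C (ent X 0 0) • (1 : Matrix (Fin 3) (Fin 3) F) := by
        ext i j
        fin_cases i <;> fin_cases j <;>
          simp [decM, e01, e02, e10, e12, e20, e21, ← e11, ← e22, dec_zero]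
      rw [hXs, Matrix.smul_mul, one_mul, ← mul_one (x : Matrix (Fin 3) (Fin 3) F), mul_assoc, one_mul,
        ← Matrix.mul_smul] at eX
      have hD : decM C D = dec C (ent X 0 0) • (1 : Matrix (Fin 3) (Fin 3) F) :=
        (Units.mul_right_inj x).1 eX
      rw [hDd] at hD
      refine hne 0 1 (by decide) ?_
      have e0 := congrFun (congrFun hD 0) 0
      have e1 := congrFun (congrFun hD 1) 1
      simp at e0 e1
      rw [e0, e1]
    rw [beq_iff_eq] at en
    obtain ⟨m, hm, hmG, hmS⟩ := hG.exists_mem C (hrm n hn)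
    have em := congrArg (decM C) en
    rw [decM_mul, decM_mul, ← hm] at em
    obtain ⟨y, hydef⟩ : ∃ y, y = m⁻¹ * x := ⟨_, rfl⟩
    have hxy : x = m * y := by rw [hydef, mul_inv_cancel_left]
    have hyG : y ∈ G3 p F := hydef ▸ mul_mem (inv_mem hmG) hxG
    have hyD : (y : Matrix (Fin 3) (Fin 3) F) * decM C D = decM C D * y := by
      refine (Units.mul_right_inj m).1 ?_
      rw [← mul_assoc, ← Units.val_mul, ← hxy, eX, hxy, Units.val_mul, ← mul_assoc, ← em, mul_assoc]
    have hy0 : ∀ i j, i ≠ j → (y : Matrix (Fin 3) (Fin 3) F) i j = 0 := fun i j hij => by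
      have e := congrFun (congrFun hyD i) j
      rw [hDd, Matrix.mul_diagonal, Matrix.diagonal_mul] at e
      by_contra h0
      exact hne i j hij (mul_left_cancel₀ h0 (by linear_combination -e))
    obtain ⟨a, ha, ea⟩ := exists_code C ((y : Matrix (Fin 3) (Fin 3) F) 0 0)
    obtain ⟨b, hb, eb⟩ := exists_code C ((y : Matrix (Fin 3) (Fin 3) F) 1 1)
    obtain ⟨c, hc, ec⟩ := exists_code C ((y : Matrix (Fin 3) (Fin 3) F) 2 2)
    have hyd : (y : Matrix (Fin 3) (Fin 3) F) = decM C (diagC a b c) := by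
      ext i j
      fin_cases i <;> fin_cases j <;>
        first
          | (simp [decM, ent, diagC, ea, eb, ec]; done)
          | (rw [hy0 _ _ (by decide)]; simp [decM, ent, diagC, dec_zero])
    have hone : (1 : ℕ) < p * p :=
      Nat.one_lt_mul_iff.2 ⟨C.prime.pos, C.prime.pos, Or.inl C.prime.one_lt⟩
    have hunit : ∀ (i : Fin 3) (z : ℕ), z < p * p → dec C z = (y : Matrix (Fin 3) (Fin 3) F) i i →
        z ∈ unitC p ns := by
      intro i z hz ez
      refine List.mem_filter.2 ⟨List.mem_range.2 hz, beq_iff_eq.2 (dec_inj C (cm_lt C _ _) hone ?_)⟩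
      rw [dec_cm, dec_cj, ez, dec_one]
      have h := hh_col C hyG.1 i i
      rw [if_pos rfl, Finset.sum_eq_single i (fun k _ hk => by rw [hy0 k i hk, zero_mul])
        (fun h' => absurd (Finset.mem_univ i) h')] at h
      exact h
    have hdet : cm p ns (cm p ns a b) c = 1 := by
      refine dec_inj C (cm_lt C _ _) hone ?_
      have h := congrArg Units.val (MonoidHom.mem_ker.1 hyG.2)
      rw [Matrix.GeneralLinearGroup.val_det_apply, Units.val_one, Matrix.det_fin_three,
        hy0 0 1 (by decide), hy0 0 2 (by decide), hy0 1 0 (by decide), hy0 1 2 (by decide),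
        hy0 2 0 (by decide), hy0 2 1 (by decide), ← ea, ← eb, ← ec] at h
      rw [dec_cm, dec_cm, dec_one]
      linear_combination h
    have hk := List.all_eq_true.1 (List.all_eq_true.1 (List.all_eq_true.1 N.diag a (hunit 0 a ha ea)) b
      (hunit 1 b hb eb)) c (hunit 2 c hc ec)
    obtain ⟨Y, hY, eY⟩ := hconj h hh T hTL
    rw [← hxdef, hxy, Units.val_mul, hyd, hm, ← decM_mul, ← decM_mul, ← decM_mul] at eY
    obtain ⟨Y', hY', eY'⟩ := List.mem_map.1 (List.contains_iff_mem.1
      (List.all_eq_true.1 (List.all_eq_true.1 N.back n hn) Y hY))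
    have key : decM C (mM p ns (diagC a b c) T) = decM C (mM p ns Y' (diagC a b c)) := by
      refine (Units.mul_right_inj m).1 ?_
      rw [hm, ← decM_mul, ← decM_mul]
      have e := congrArg (decM C) eY'
      simp only [decM_mul, mul_assoc] at eY e ⊢
      rw [eY, ← mul_assoc, ← e, mul_assoc]
    have key' : mM p ns (diagC a b c) T = mM p ns Y' (diagC a b c) := by
      have hall : ∀ k : Fin 3, ∀ l : Fin 3, ent (mM p ns (diagC a b c) T) k l =
          ent (mM p ns Y' (diagC a b c)) k l := fun k l =>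
        dec_inj C (by fin_cases k <;> fin_cases l <;> exact ca_lt C _ _)
          (by fin_cases k <;> fin_cases l <;> exact ca_lt C _ _) (congrFun (congrFun key k) l)
      simp only [Fin.forall_fin_succ, Fin.forall_fin_zero, and_true] at hall
      obtain ⟨⟨a0, a1, a2⟩, ⟨b0, b1, b2⟩, c0, c1, c2⟩ := hall
      simp [mM, ent] at a0 a1 a2 b0 b1 b2 c0 c1 c2 ⊢
      exact ⟨a0, a1, a2, b0, b1, b2, c0, c1, c2⟩
    simp only [hdet, beq_self_eq_true, Bool.not_true, Bool.false_or, Bool.or_eq_true, List.all_eq_true,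
      bne_iff_ne, List.any_eq_true, beq_iff_eq] at hk
    rcases hk with hk | ⟨i', -, j', -, hij⟩
    · exact absurd key' (hk Y' hY')
    obtain ⟨d', hd', -, hdS⟩ := hG.exists_mem C hDm
    obtain ⟨z', hz', -, hzS⟩ := hG.exists_mem C hZm
    have : y = d' ^ i' * z' ^ j' := Units.ext (by
      rw [hyd, hij, decM_mul, decM_pow, decM_pow, Units.val_mul, Units.val_pow_eq_pow_val,
        Units.val_pow_eq_pow_val, hd', hz'])
    rw [hxy, this]
    exact mul_mem hmS (mul_mem (pow_mem hdS _) (pow_mem hzS _))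
  · rintro ⟨hh, -⟩
    obtain ⟨Y, hY, eY⟩ := hconj _ hh D hDL
    rw [show g⁻¹ * (g * x₀ * g⁻¹) * g = x₀ by group, hx₀, ← decM_mul, ← decM_mul] at eY
    have hb := List.all_eq_true.1 htD Y hY
    rw [bne_iff_ne] at hb
    apply hb
    have hall : ∀ k : Fin 3, ∀ l : Fin 3, ent (mM p ns t D) k l = ent (mM p ns Y t) k l := fun k l =>
      dec_inj C (by fin_cases k <;> fin_cases l <;> exact ca_lt C _ _)
        (by fin_cases k <;> fin_cases l <;> exact ca_lt C _ _) (congrFun (congrFun eY k) l)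
    simp only [Fin.forall_fin_succ, Fin.forall_fin_zero, and_true] at hall
    obtain ⟨⟨a0, a1, a2⟩, ⟨b0, b1, b2⟩, c0, c1, c2⟩ := hall
    simp [mM, ent] at a0 a1 a2 b0 b1 b2 c0 c1 c2 ⊢
    exact ⟨a0, a1, a2, b0, b1, b2, c0, c1, c2⟩

end CfsgLib.MaxSub.SUThree
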