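/-
Real forms in `SU_3(p)`, `p` three or five, inside the stabiliser of a coded set of points.
-/
import Cfsg.Agent.Lib.MaxSub.SUThree.Basic
import Cfsg.Agent.Lib.Aschbacher.UnitaryRational

set_option autoImplicit false
set_option maxHeartbeats 1000000
set_option linter.unusedSectionVars false

namespace CfsgLib.MaxSub.SUThree

open Matrix Module Cfsg Cfsg.Geo CfsgLib.Heis27

variable {F : Type*} [Field F] [Fintype F] {p ns : ℕ}

/-- Decidable properties of the data. -/
structure OrthData (p ns : ℕ) (mem : List (List ℕ)) : Prop where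
  norm : ((List.range p).all fun n => n == 0 ||
    (List.range p).any fun m => n * m * m % p == 1 || n * m * m % p == 2) = true
  two : ∃ i < p, 2 * 2 * i * i % p = 1
  cols : ((List.range p).all fun a => (List.range p).all fun b => (List.range p).all fun c =>
    !((a * a + b * b + c * c) % p == 1) || mem.any fun X =>
      ((List.range 9).all fun i => decide (X.getD i 0 < p)) &&
        ent X 0 0 == a && ent X 1 0 == b && ent X 2 0 == c) = true
  blocks : ((List.range p).all fun a => (List.range p).all fun b => (List.range p).all fun c =>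
    (List.range p).all fun d =>
      !((a * a + c * c) % p == 1 && (b * b + d * d) % p == 1 && (a * b + c * d) % p == 0 &&
        (a * d + (p - 1) * (b * c)) % p == 1) || mem.contains [1, 0, 0, 0, a, b, 0, c, d]) = true
  scalar : ((List.range (p * p)).all fun z =>
    !(cm p ns (cm p ns z z) z == 1) || mem.contains [z, 0, 0, 0, z, 0, 0, 0, z]) = true

variable (C : Coord F p ns)

include C in
theorem exists_nat_of_fixed {x : F} (hx : x ^ p = x) : ∃ n < p, x = (n : F) := by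
  obtain ⟨c, hc, rfl⟩ := exists_code C x
  refine ⟨c % p, Nat.mod_lt _ C.prime.pos, ?_⟩
  rw [← dec_cj] at hx
  have hb : c / p < p := Nat.div_lt_of_lt_mul hc
  have h1 := Nat.mod_lt (p - c / p % p) C.prime.pos
  have hlt : cj p c < p * p := by
    have h2 : (p - c / p % p) % p + 1 ≤ p := h1
    have h3 := Nat.mul_le_mul_left p h2
    have h4 := Nat.mod_lt c C.prime.pos
    rw [mul_add, mul_one] at h3
    unfold cj
    omega
  have h := congrArg (· / p) (dec_inj C hlt hc hx)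
  simp only [cj, Nat.add_mul_div_left _ _ C.prime.pos, Nat.div_eq_of_lt (Nat.mod_lt _ C.prime.pos),
    zero_add] at h
  have hodd : p % 2 = 1 := (C.prime.eq_two_or_odd).resolve_left C.odd
  have h0 : c / p = 0 := by
    by_contra hne
    rw [Nat.mod_eq_of_lt hb, Nat.mod_eq_of_lt (show p - c / p < p by omega)] at h
    omega
  simp [dec, h0]

include C in
theorem natCast_fixed (n : ℕ) : (n : F) ^ p = (n : F) := by
  haveI := C.charP
  haveI : Fact p.Prime := ⟨C.prime⟩
  rw [← map_natCast (ZMod.castHom (dvd_refl p) F) n, ← map_pow, ZMod.pow_card]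

include C in
theorem eq_nat {a b : ℕ} (h : (a : F) = (b : F)) : a % p = b % p := by
  haveI := C.charP
  exact (CharP.natCast_eq_natCast F p).1 h

include C in
theorem real_entries {F₀ : Subfield F} (hc : Fintype.card F = Nat.card F₀ ^ 2) {x : F} :
    x ∈ F₀ ↔ x ^ p = x := by
  have hn : Nat.card F₀ = p := (Nat.pow_left_injective two_ne_zero (hc.symm.trans C.card))
  refine ⟨fun h => ?_, fun h => CfsgLib.Aschbacher.mem_of_pow_card_eq (by rw [hn]; exact h)⟩
  haveI : Fintype F₀ := Fintype.ofFinite _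
  rw [← hn, Nat.card_eq_fintype_card]
  exact congrArg Subtype.val (FiniteField.pow_card (⟨x, h⟩ : F₀))

include C in
/-- A rational orthonormal basis up to a scalar. -/
theorem exists_real_basis {mem : List (List ℕ)} (D : OrthData p ns mem) {P : GL (Fin 3) F}
    (hP : ∀ u v : Fin 3 → F, (∀ i, u i ^ p = u i) → (∀ i, v i ^ p = v i) →
      hh p ((P : Matrix (Fin 3) (Fin 3) F) *ᵥ u) ((P : Matrix (Fin 3) (Fin 3) F) *ᵥ v) ^ p =
        hh p ((P : Matrix (Fin 3) (Fin 3) F) *ᵥ u) ((P : Matrix (Fin 3) (Fin 3) F) *ᵥ v)) :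
    ∃ (v : Fin 3 → Fin 3 → F) (d : F), d ≠ 0 ∧ (∀ i j, v i j ^ p = v i j) ∧
      ∀ i j, hh p ((P : Matrix (Fin 3) (Fin 3) F) *ᵥ v i) ((P : Matrix (Fin 3) (Fin 3) F) *ᵥ v j) =
        if i = j then d else 0 := by
  classical
  haveI := C.charP
  haveI : Fact p.Prime := ⟨C.prime⟩
  let b : (Fin 3 → F) → (Fin 3 → F) → F := fun u v =>
    hh p ((P : Matrix (Fin 3) (Fin 3) F) *ᵥ u) ((P : Matrix (Fin 3) (Fin 3) F) *ᵥ v)
  have hfix : ∀ x : F, x ^ p = x ↔ frobenius F p x = x := fun x => Iff.rfl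
  let Rat : (Fin 3 → F) → Prop := fun u => ∀ i, u i ^ p = u i
  have hRadd : ∀ {u v}, Rat u → Rat v → Rat (u + v) := fun {u v} hu hv i => by
    rw [Pi.add_apply, hfix, map_add, (hfix _).1 (hu i), (hfix _).1 (hv i)]
  have hRsub : ∀ {u v}, Rat u → Rat v → Rat (u - v) := fun {u v} hu hv i => by
    rw [Pi.sub_apply, hfix, map_sub, (hfix _).1 (hu i), (hfix _).1 (hv i)]
  have hRsmul : ∀ {c : F} {u}, c ^ p = c → Rat u → Rat (c • u) := fun {c u} hc hu i => by
    rw [Pi.smul_apply, smul_eq_mul, mul_pow, hc, hu i]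
  have hsym : ∀ {u v}, Rat u → Rat v → b v u = b u v := fun {u v} hu hv => by
    show hh p _ _ = _
    rw [← hh_swap C.card]
    exact hP u v hu hv
  have badd : ∀ u v w, b (u + v) w = b u w + b v w := fun u v w => by
    simp only [b, Matrix.mulVec_add, hh_add_left C.card]
  have bsmul : ∀ (c : F) u w, b (c • u) w = c * b u w := fun c u w => by
    simp only [b, Matrix.mulVec_smul, hh_smul_left C.card]
  have bsub : ∀ u v w, b (u - v) w = b u w - b v w := fun u v w =>
    eq_sub_of_add_eq (by rw [← badd, sub_add_cancel])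
  have baddr : ∀ {u v w}, Rat u → Rat v → Rat w → b u (v + w) = b u v + b u w := fun {u v w} hu hv hw => by
    rw [← hsym hu (hRadd hv hw), badd, hsym hu hv, hsym hu hw]
  have hone : ∀ i, Rat (Pi.single i 1) := fun i k => by
    by_cases hk : k = i
    · subst hk; simp
    · simp [Pi.single_eq_of_ne hk, C.prime.ne_zero]
  have hnd : ∀ z, (∀ i, b z (Pi.single i 1) = 0) → z = 0 := fun z hz => by
    have h0 : ∀ w, hh p ((P : Matrix (Fin 3) (Fin 3) F) *ᵥ z) w = 0 := fun w => by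
      obtain ⟨c, rfl⟩ : ∃ c, (P : Matrix (Fin 3) (Fin 3) F) *ᵥ c = w :=
        ⟨_, CfsgLib.Aschbacher.mulVec_inv_cancel P w⟩
      have hc : c = ∑ i, c i • (Pi.single i 1 : Fin 3 → F) := pi_eq_sum_univ' c
      rw [hc, Matrix.mulVec_sum, hh_sum_right C.card]
      refine Finset.sum_eq_zero fun i _ => ?_
      rw [Matrix.mulVec_smul, hh_smul_right C.card]
      show _ * b z _ = 0
      rw [hz i, mul_zero]
    refine CfsgLib.Aschbacher.mulVec_injective P ?_
    show _ = (P : Matrix (Fin 3) (Fin 3) F) *ᵥ 0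
    rw [Matrix.mulVec_zero]
    funext k
    have := h0 (Pi.single k 1)
    rwa [hh, CfsgLib.UnitaryOrder.herm_single_right C.card] at this
  have h2 : (2 : F) ≠ 0 := fun e => C.odd ((Nat.prime_dvd_prime_iff_eq C.prime Nat.prime_two).1
    ((CharP.cast_eq_zero_iff F p 2).1 (by exact_mod_cast e)))
  -- extending an orthogonal system
  have next_ : ∀ {k : ℕ}, k < 3 → ∀ a : Fin k → Fin 3 → F, (∀ i, Rat (a i)) →
      (∀ i, b (a i) (a i) ≠ 0) → (∀ i j, i ≠ j → b (a i) (a j) = 0) →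
      ∃ z, Rat z ∧ b z z ≠ 0 ∧ ∀ i, b z (a i) = 0 := by
    intro k hk a ha hna hoa
    let z : Fin 3 → Fin 3 → F := fun l =>
      Pi.single l 1 - ∑ i, (b (Pi.single l 1) (a i) / b (a i) (a i)) • a i
    have hsum : ∀ l, Rat (∑ i, (b (Pi.single l 1) (a i) / b (a i) (a i)) • a i) := fun l =>
      Finset.sum_induction _ Rat (fun _ _ => hRadd) (fun i => by simp [C.prime.ne_zero]) fun i _ =>
        hRsmul (by rw [div_pow, hP _ _ (hone l) (ha i), hP _ _ (ha i) (ha i)]) (ha i)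
    have hz : ∀ l, Rat (z l) := fun l => hRsub (hone l) (hsum l)
    have bsum : ∀ (f : Fin k → Fin 3 → F) w, b (∑ i, f i) w = ∑ i, b (f i) w := fun f w =>
      map_sum (AddMonoidHom.mk' (fun u => b u w) fun u v => badd u v w) f Finset.univ
    have hza : ∀ l j, b (z l) (a j) = 0 := fun l j => by
      rw [bsub, bsum, Finset.sum_eq_single j (fun i _ hi => by rw [bsmul, hoa i j hi, mul_zero])
        (fun h => absurd (Finset.mem_univ j) h), bsmul, div_mul_cancel₀ _ (hna j), sub_self]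
    by_cases hd : ∃ l, b (z l) (z l) ≠ 0
    · obtain ⟨l, hl⟩ := hd
      exact ⟨z l, hz l, hl, hza l⟩
    push Not at hd
    by_cases ho : ∃ l l', b (z l) (z l') ≠ 0
    · obtain ⟨l, l', hl⟩ := ho
      refine ⟨z l + z l', hRadd (hz l) (hz l'), ?_, fun j => by rw [badd, hza, hza, add_zero]⟩
      rw [badd, baddr (hz l) (hz l) (hz l'), baddr (hz l') (hz l) (hz l'), hd, hd,
        hsym (hz l) (hz l'), zero_add, add_zero, ← two_mul]
      exact mul_ne_zero h2 hl
    push Not at ho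
    exfalso
    have hzero : ∀ l, z l = 0 := fun l => hnd _ fun m => by
      have e : (Pi.single m 1 : Fin 3 → F) =
          z m + ∑ i, (b (Pi.single m 1) (a i) / b (a i) (a i)) • a i := by simp [z]
      rw [e, baddr (hz l) (hz m) (hsum m), ho, zero_add, ← hsym (hz l) (hsum m), bsum]
      refine Finset.sum_eq_zero fun i _ => ?_
      rw [bsmul, hsym (hz l) (ha i), hza, mul_zero]
    have htop : ⊤ ≤ Submodule.span F (Set.range a) := fun w _ => by
      rw [pi_eq_sum_univ' w]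
      refine sum_mem fun l _ => Submodule.smul_mem _ _ ?_
      rw [sub_eq_zero.1 (hzero l)]
      exact sum_mem fun i _ => Submodule.smul_mem _ _ (Submodule.subset_span ⟨i, rfl⟩)
    have h1 := Submodule.finrank_mono htop
    have h3 := finrank_range_le_card (R := F) a
    rw [finrank_top, Module.finrank_fin_fun] at h1
    simp only [Set.finrank, Fintype.card_fin] at h3
    omega
  -- scaling
  have scale : ∀ z, Rat z → b z z ≠ 0 →
      ∃ c : F, c ≠ 0 ∧ c ^ p = c ∧ (b (c • z) (c • z) = 1 ∨ b (c • z) (c • z) = 2) := by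
    intro z hz hne
    obtain ⟨n, hn, hb⟩ := exists_nat_of_fixed C (hP z z hz hz)
    have h := List.all_eq_true.1 D.norm n (List.mem_range.2 hn)
    rw [Bool.or_eq_true, beq_iff_eq, List.any_eq_true] at h
    obtain ⟨m, hm, hm'⟩ := h.resolve_left fun e => hne (hb.trans (by rw [e, Nat.cast_zero]))
    have hv : b ((m : F) • z) ((m : F) • z) = ((n * m * m % p : ℕ) : F) := by
      rw [bsmul, hsym (hRsmul (natCast_fixed C m) hz) hz, bsmul, cast_mod C, show b z z = n from hb]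
      push_cast
      ring
    rw [Bool.or_eq_true, beq_iff_eq, beq_iff_eq] at hm'
    refine ⟨m, fun e => ?_, natCast_fixed C m, ?_⟩
    · rw [e, bsmul, zero_mul] at hv
      rcases hm' with h1 | h1 <;> rw [h1] at hv
      · exact (one_ne_zero (α := F)) (by simpa using hv.symm)
      · exact h2 (by simpa using hv.symm)
    · rw [hv]
      rcases hm' with h1 | h1 <;> rw [h1] <;> simp
  have bsq : ∀ (c : F) z, c ^ p = c → Rat z → b (c • z) (c • z) = c * c * b z z := fun c z hc hz => by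
    rw [bsmul, hsym (hRsmul hc hz) hz, bsmul, mul_assoc]
  obtain ⟨z₀, hz₀, hn₀, -⟩ := next_ (k := 0) (by norm_num) ![] (fun i => i.elim0) (fun i => i.elim0)
    fun i => i.elim0
  obtain ⟨z₁, hz₁, hn₁, ho₁⟩ := next_ (k := 1) (by norm_num) ![z₀] (by simp [hz₀]) (by simp [hn₀])
    (fun i j h => absurd (Subsingleton.elim i j) h)
  have h10 : b z₁ z₀ = 0 := ho₁ 0
  have h01 : b z₀ z₁ = 0 := (hsym hz₁ hz₀).trans h10
  obtain ⟨z₂, hz₂, hn₂, ho₂⟩ := next_ (k := 2) (by norm_num) ![z₀, z₁] (by simp [Fin.forall_fin_two, hz₀, hz₁])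
    (by simp [Fin.forall_fin_two, hn₀, hn₁])
    (fun i j h => by fin_cases i <;> fin_cases j <;> simp_all)
  have h20 : b z₂ z₀ = 0 := ho₂ 0
  have h21 : b z₂ z₁ = 0 := ho₂ 1
  obtain ⟨c₀, -, hc₀, e₀⟩ := scale z₀ hz₀ hn₀
  obtain ⟨c₁, -, hc₁, e₁⟩ := scale z₁ hz₁ hn₁
  obtain ⟨c₂, -, hc₂, e₂⟩ := scale z₂ hz₂ hn₂
  have r₀ := hRsmul hc₀ hz₀
  have r₁ := hRsmul hc₁ hz₁
  have r₂ := hRsmul hc₂ hz₂
  have o10 : b (c₁ • z₁) (c₀ • z₀) = 0 := by
    rw [bsmul, hsym r₀ hz₁, bsmul, h01, mul_zero, mul_zero]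
  have o20 : b (c₂ • z₂) (c₀ • z₀) = 0 := by
    rw [bsmul, hsym r₀ hz₂, bsmul, show b z₀ z₂ = 0 from (hsym hz₂ hz₀).trans h20, mul_zero, mul_zero]
  have o21 : b (c₂ • z₂) (c₁ • z₁) = 0 := by
    rw [bsmul, hsym r₁ hz₂, bsmul, show b z₁ z₂ = 0 from (hsym hz₂ hz₁).trans h21, mul_zero, mul_zero]
  -- finishing with an orthogonal system
  have finish : ∀ x y w : Fin 3 → F, Rat x → Rat y → Rat w → ∀ d : F, d ≠ 0 → b x x = d → b y y = d →
      b w w = d → b y x = 0 → b w x = 0 → b w y = 0 →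
      ∃ (v : Fin 3 → Fin 3 → F) (d : F), d ≠ 0 ∧ (∀ i j, v i j ^ p = v i j) ∧
        ∀ i j, b (v i) (v j) = if i = j then d else 0 := by
    intro x y w hx hy hw d hd ex ey ew oyx owx owy
    have oxy : b x y = 0 := (hsym hy hx).trans oyx
    have oxw : b x w = 0 := (hsym hw hx).trans owx
    have oyw : b y w = 0 := (hsym hw hy).trans owy
    refine ⟨![x, y, w], d, hd, fun i j => ?_, fun i j => ?_⟩
    · fin_cases i
      exacts [hx j, hy j, hw j]
    · fin_cases i <;> fin_cases j <;> simp [ex, ey, ew, oxy, oxw, oyx, oyw, owx, owy]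
  -- turning a pair
  obtain ⟨t, ht, htt⟩ := D.two
  have htF : (t : F) * t * 4 = 1 := by
    have h := congrArg (Nat.cast : ℕ → F) htt
    rw [cast_mod C] at h
    push_cast at h
    linear_combination h
  have pair : ∀ x y w : Fin 3 → F, Rat x → Rat y → Rat w → ∀ d e : F, (d = 1 ∧ e = 2) ∨ (d = 2 ∧ e = 1) →
      b x x = d → b y y = d → b w w = e → b y x = 0 → b w x = 0 → b w y = 0 →
      ∃ (v : Fin 3 → Fin 3 → F) (d : F), d ≠ 0 ∧ (∀ i j, v i j ^ p = v i j) ∧
        ∀ i j, b (v i) (v j) = if i = j then d else 0 := by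
    intro x y w hx hy hw d e hde ex ey ew oyx owx owy
    have oxy : b x y = 0 := (hsym hy hx).trans oyx
    have hxy := hRadd hx hy
    have hxy' := hRsub hx hy
    have bsubr : ∀ {u}, Rat u → b u (x - y) = b u x - b u y := fun {u} hu => by
      rw [← hsym hu hxy', bsub, hsym hu hx, hsym hu hy]
    have s1 : b (x + y) (x + y) = 2 * d := by
      rw [badd, baddr hx hx hy, baddr hy hx hy, ex, ey, oxy, oyx]; ring
    have s2 : b (x - y) (x - y) = 2 * d := by
      rw [bsub, bsubr hx, bsubr hy, ex, ey, oxy, oyx]; ring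
    have s3 : b (x - y) (x + y) = 0 := by
      rw [bsub, baddr hx hx hy, baddr hy hx hy, ex, ey, oxy, oyx]; ring
    have s4 : b w (x + y) = 0 := by rw [baddr hw hx hy, owx, owy, add_zero]
    have s5 : b w (x - y) = 0 := by rw [bsubr hw, owx, owy, sub_zero]
    rcases hde with ⟨rfl, rfl⟩ | ⟨rfl, rfl⟩
    · exact finish _ _ _ hxy hxy' hw 2 h2 (by rw [s1, mul_one]) (by rw [s2, mul_one]) ew s3 s4 s5
    · have hfx := natCast_fixed C t
      refine finish _ _ _ (hRsmul hfx hxy) (hRsmul hfx hxy') hw 1 one_ne_zero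
        (by rw [bsq _ _ hfx hxy, s1]; linear_combination htF)
        (by rw [bsq _ _ hfx hxy', s2]; linear_combination htF) ew ?_ ?_ ?_
      · rw [bsmul, hsym (hRsmul hfx hxy) hxy', bsmul, show b (x + y) (x - y) = 0 from (hsym hxy' hxy).trans s3, mul_zero, mul_zero]
      · rw [hsym (hRsmul hfx hxy) hw, bsmul, show b (x + y) w = 0 from (hsym hw hxy).trans s4, mul_zero]
      · rw [hsym (hRsmul hfx hxy') hw, bsmul, show b (x - y) w = 0 from (hsym hw hxy').trans s5, mul_zero]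
  have o01 : b (c₀ • z₀) (c₁ • z₁) = 0 := (hsym r₁ r₀).trans o10
  have o02 : b (c₀ • z₀) (c₂ • z₂) = 0 := (hsym r₂ r₀).trans o20
  have o12 : b (c₁ • z₁) (c₂ • z₂) = 0 := (hsym r₂ r₁).trans o21
  rcases e₀ with a₀ | a₀ <;> rcases e₁ with a₁ | a₁ <;> rcases e₂ with a₂ | a₂
  · exact finish _ _ _ r₀ r₁ r₂ 1 one_ne_zero a₀ a₁ a₂ o10 o20 o21
  · exact pair _ _ _ r₀ r₁ r₂ 1 2 (Or.inl ⟨rfl, rfl⟩) a₀ a₁ a₂ o10 o20 o21
  · exact pair _ _ _ r₀ r₂ r₁ 1 2 (Or.inl ⟨rfl, rfl⟩) a₀ a₂ a₁ o20 o10 o12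
  · exact pair _ _ _ r₁ r₂ r₀ 2 1 (Or.inr ⟨rfl, rfl⟩) a₁ a₂ a₀ o21 o01 o02
  · exact pair _ _ _ r₁ r₂ r₀ 1 2 (Or.inl ⟨rfl, rfl⟩) a₁ a₂ a₀ o21 o01 o02
  · exact pair _ _ _ r₀ r₂ r₁ 2 1 (Or.inr ⟨rfl, rfl⟩) a₀ a₂ a₁ o20 o10 o12
  · exact pair _ _ _ r₀ r₁ r₂ 2 1 (Or.inr ⟨rfl, rfl⟩) a₀ a₁ a₂ o10 o20 o21
  · exact finish _ _ _ r₀ r₁ r₂ 2 h2 a₀ a₁ a₂ o10 o20 o21

/-- Real orthogonal matrices stabilise the points. -/
theorem real_mem {S mem img sc : List (List ℕ)} (hG : Good p ns S mem img sc)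
    (D : OrthData p ns mem) {M : GL (Fin 3) F} (hMG : M ∈ G3 p F)
    (hM : ∀ i j, (M : Matrix (Fin 3) (Fin 3) F) i j ^ p = (M : Matrix (Fin 3) (Fin 3) F) i j) :
    M ∈ stab C S := by
  classical
  haveI := C.charP
  haveI : Fact p.Prime := ⟨C.prime⟩
  obtain ⟨a, ha, ea⟩ := exists_nat_of_fixed C (hM 0 0)
  obtain ⟨b, hb, eb⟩ := exists_nat_of_fixed C (hM 1 0)
  obtain ⟨c, hc, ec⟩ := exists_nat_of_fixed C (hM 2 0)
  have hnorm : (a * a + b * b + c * c) % p = 1 := by
    have h := hh_col C hMG.1 0 0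
    rw [if_pos rfl, Fin.sum_univ_three, hM, hM, hM, ea, eb, ec] at h
    have := eq_nat C (a := a * a + b * b + c * c) (b := 1) (by push_cast; exact h)
    rwa [Nat.mod_eq_of_lt C.prime.one_lt] at this
  have h := List.all_eq_true.1 (List.all_eq_true.1 (List.all_eq_true.1 D.cols a (List.mem_range.2 ha)) b
    (List.mem_range.2 hb)) c (List.mem_range.2 hc)
  rw [hnorm] at h
  simp only [beq_self_eq_true, Bool.not_true, Bool.false_or, List.any_eq_true, Bool.and_eq_true,
    List.all_eq_true, decide_eq_true_iff, beq_iff_eq, List.mem_range] at h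
  obtain ⟨X, hX, ⟨⟨hlt, xa⟩, xb⟩, xc⟩ := h
  obtain ⟨g, hg, hgG, hgS⟩ := hG.exists_mem C hX
  have hgr : ∀ i j, (g : Matrix (Fin 3) (Fin 3) F) i j ^ p = (g : Matrix (Fin 3) (Fin 3) F) i j := by
    intro i j
    rw [hg]
    simp only [decM, Matrix.of_apply, ent]
    rw [dec_of_lt C (hlt _ (by omega)), natCast_fixed C]
  obtain ⟨N, hN⟩ : ∃ N, N = g⁻¹ * M := ⟨_, rfl⟩
  have hNG : N ∈ G3 p F := hN ▸ mul_mem (inv_mem hgG) hMG
  have hNr : ∀ i j, (N : Matrix (Fin 3) (Fin 3) F) i j ^ p = (N : Matrix (Fin 3) (Fin 3) F) i j := by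
    let φ : GL (Fin 3) F →* GL (Fin 3) F := Matrix.GeneralLinearGroup.map (frobenius F p)
    have hφ : ∀ x : GL (Fin 3) F, φ x = x ↔
        ∀ i j, (x : Matrix (Fin 3) (Fin 3) F) i j ^ p = (x : Matrix (Fin 3) (Fin 3) F) i j := fun x => by
      constructor
      · intro h i j
        exact congrArg (fun u : GL (Fin 3) F => (u : Matrix (Fin 3) (Fin 3) F) i j) h
      · intro h
        exact Units.ext (Matrix.ext h)
    refine (hφ N).1 ?_
    rw [hN, map_mul, map_inv, (hφ g).2 hgr, (hφ M).2 hM]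
  have hcol : (N : Matrix (Fin 3) (Fin 3) F) *ᵥ Pi.single 0 1 = Pi.single 0 1 := by
    have e : (M : Matrix (Fin 3) (Fin 3) F) *ᵥ Pi.single 0 1 =
        (g : Matrix (Fin 3) (Fin 3) F) *ᵥ Pi.single 0 1 := by
      rw [Matrix.mulVec_single_one, Matrix.mulVec_single_one]
      funext k
      simp only [Matrix.col_apply, hg, decM, Matrix.of_apply]
      fin_cases k <;> simp [xa, xb, xc, ea, eb, ec, dec_of_lt C ha, dec_of_lt C hb, dec_of_lt C hc]
    rw [hN, Units.val_mul, ← Matrix.mulVec_mulVec, e, CfsgLib.Aschbacher.inv_mulVec_cancel]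
  have n00 : (N : Matrix (Fin 3) (Fin 3) F) 0 0 = 1 := by simpa using congrFun hcol 0
  have n10 : (N : Matrix (Fin 3) (Fin 3) F) 1 0 = 0 := by simpa using congrFun hcol 1
  have n20 : (N : Matrix (Fin 3) (Fin 3) F) 2 0 = 0 := by simpa using congrFun hcol 2
  have n0 : ∀ j, (0 : Fin 3) ≠ j → (N : Matrix (Fin 3) (Fin 3) F) 0 j = 0 := fun j hj => by
    have h := hh_col C hNG.1 0 j
    rw [if_neg hj, Fin.sum_univ_three, n00, n10, n20, hNr, zero_mul, zero_mul, add_zero, add_zero,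
      one_mul] at h
    exact h
  obtain ⟨x, hx, ex⟩ := exists_nat_of_fixed C (hNr 1 1)
  obtain ⟨y, hy, ey⟩ := exists_nat_of_fixed C (hNr 1 2)
  obtain ⟨z, hz, ez⟩ := exists_nat_of_fixed C (hNr 2 1)
  obtain ⟨w, hw, ew⟩ := exists_nat_of_fixed C (hNr 2 2)
  have k1 := hh_col C hNG.1 1 1
  have k2 := hh_col C hNG.1 2 2
  have k3 := hh_col C hNG.1 1 2
  have k4 := congrArg Units.val (MonoidHom.mem_ker.1 hNG.2)
  rw [Matrix.GeneralLinearGroup.val_det_apply, Units.val_one, Matrix.det_fin_three, n00, n10, n20,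
    n0 1 (by decide), n0 2 (by decide), ex, ey, ez, ew] at k4
  rw [if_pos rfl, Fin.sum_univ_three, hNr, hNr, hNr, n0 1 (by decide), ex, ez] at k1
  rw [if_pos rfl, Fin.sum_univ_three, hNr, hNr, hNr, n0 2 (by decide), ey, ew] at k2
  rw [if_neg (by decide), Fin.sum_univ_three, hNr, hNr, hNr, n0 1 (by decide), n0 2 (by decide), ex,
    ey, ez, ew] at k3
  have c1 := eq_nat C (a := x * x + z * z) (b := 1) (by push_cast; linear_combination k1)
  have c2 := eq_nat C (a := y * y + w * w) (b := 1) (by push_cast; linear_combination k2)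
  have c3 := eq_nat C (a := x * y + z * w) (b := 0) (by push_cast; linear_combination k3)
  have c4 := eq_nat C (a := x * w + (p - 1) * (y * z)) (b := 1) (by
    rw [Nat.cast_add, Nat.cast_mul, Nat.cast_mul (p - 1), Nat.cast_sub C.prime.one_le,
      CharP.cast_eq_zero F p]
    push_cast
    linear_combination k4)
  rw [Nat.mod_eq_of_lt C.prime.one_lt] at c1 c2 c4
  rw [Nat.zero_mod] at c3
  have h := List.all_eq_true.1 (List.all_eq_true.1 (List.all_eq_true.1 (List.all_eq_true.1 D.blocks x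
    (List.mem_range.2 hx)) y (List.mem_range.2 hy)) z (List.mem_range.2 hz)) w (List.mem_range.2 hw)
  simp only [c1, c2, c3, c4, beq_self_eq_true, Bool.and_self, Bool.not_true, Bool.false_or,
    List.contains_iff_mem] at h
  have hNS : N ∈ stab C S := hG.mem_stab C h (by
    ext i j
    fin_cases i <;> fin_cases j <;>
      simp [decM, ent, dec_zero, dec_one, n00, n10, n20, n0 1 (by decide), n0 2 (by decide), ex, ey, ez,
        ew, dec_of_lt C hx, dec_of_lt C hy, dec_of_lt C hz, dec_of_lt C hw])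
  have : M = g * N := by rw [hN]; group
  rw [this]
  exact mul_mem hgS hNS

/-- Real forms are not maximal. -/
theorem orth_below {S mem img sc : List (List ℕ)} (hG : Good p ns S mem img sc)
    (D : OrthData p ns mem) {T : List ℕ} (hT : T ∈ mem)
    (hTw : ∃ i j k l : Fin 3, dec C (ent T i j) = 1 ∧ dec C (ent T k l) ^ p ≠ dec C (ent T k l))
    {W : List ℕ} {i : ℕ} (hW : movesOut p ns S W i = true) (hWu : isSU p ns W = true)
    {F₀ : Subfield F} {P : GL (Fin 3) F} (hc : Fintype.card F = Nat.card F₀ ^ 2)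
    (hP : IsFormRationalStructure (Cfsg.hermForm 3 F p) F₀ 1 P) :
    ∃ K, subfieldSubgroup F₀ P ⊓ G3 p F < K ∧ K < G3 p F := by
  classical
  haveI := C.charP
  haveI : Fact p.Prime := ⟨C.prime⟩
  have hmem : ∀ {x : F}, x ∈ F₀ ↔ x ^ p = x := fun {x} => real_entries C hc
  obtain ⟨v, d, hd, hv, hvd⟩ := exists_real_basis C D (P := P) fun u w hu hw => by
    have := hP u w (fun i => hmem.2 (hu i)) (fun i => hmem.2 (hw i))
    rw [one_mul] at this
    exact hmem.1 this
  obtain ⟨l, hl0, hl⟩ := normalise C.card (w := (P : Matrix (Fin 3) (Fin 3) F) *ᵥ v 0) (by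
    rw [hvd, if_pos rfl]; exact hd)
  obtain ⟨U, hU, hUc⟩ := unitary_of_cols C.card (fun i => l • (P : Matrix (Fin 3) (Fin 3) F) *ᵥ v i)
    fun i j => by
      rw [hh_smul_left C.card, hh_smul_right C.card, hvd]
      rw [hh_smul_left C.card, hh_smul_right C.card, hvd, if_pos rfl] at hl
      split_ifs
      · exact hl
      · rw [mul_zero, mul_zero]
  let V : Matrix (Fin 3) (Fin 3) F := Matrix.of fun i j => v j i
  have hUV : (U : Matrix (Fin 3) (Fin 3) F) = l • ((P : Matrix (Fin 3) (Fin 3) F) * V) := by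
    ext i j
    rw [hUc]
    rfl
  have hVdet : V.det ≠ 0 := fun h0 => U.det_ne_zero (by
    rw [hUV, Matrix.det_smul, Matrix.det_mul, h0, mul_zero, mul_zero])
  let Vg := Matrix.GeneralLinearGroup.mkOfDetNeZero V hVdet
  let φ : GL (Fin 3) F →* GL (Fin 3) F := Matrix.GeneralLinearGroup.map (frobenius F p)
  have hVfix : φ Vg = Vg := Units.ext (Matrix.ext fun i j => hv j i)
  have hsub : ∀ g : GL (Fin 3) F, g ∈ subfieldSubgroup F₀ P →
      ∃ (c : F) (m : GL (Fin 3) F), φ m = m ∧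
        ((U⁻¹ * g * U : GL (Fin 3) F) : Matrix (Fin 3) (Fin 3) F) =
          c • (m : Matrix (Fin 3) (Fin 3) F) := by
    rintro _ ⟨y, hy, rfl⟩
    obtain ⟨r, ⟨R, rfl⟩, z, hz, rfl⟩ := Subgroup.mem_sup_of_normal_right.1 (SetLike.mem_coe.1 hy)
    obtain ⟨c, hcz⟩ := (mem_scalars_iff z).1 hz
    obtain ⟨R', hR'⟩ : ∃ R', R' = Matrix.GeneralLinearGroup.map F₀.subtype R := ⟨_, rfl⟩
    have hRfix : φ R' = R' := hR' ▸ Units.ext (Matrix.ext fun i j => hmem.1
      ((R : Matrix (Fin 3) (Fin 3) F₀) i j).2)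
    refine ⟨c, Vg⁻¹ * R' * Vg, by rw [map_mul, map_mul, map_inv, hRfix, hVfix], ?_⟩
    show ((U⁻¹ * (P * (Matrix.GeneralLinearGroup.map F₀.subtype R * z) * P⁻¹) * U : GL (Fin 3) F) :
      Matrix (Fin 3) (Fin 3) F) = _
    obtain ⟨L, hL⟩ : ∃ L : GL (Fin 3) F, L = CfsgLib.Aschbacher.scalarGL (Fin 3) (Units.mk0 l hl0) :=
      ⟨_, rfl⟩
    have hUe : U = P * Vg * L := Units.ext (by
      rw [hUV, Units.val_mul, Units.val_mul, hL, CfsgLib.Aschbacher.scalarGL_val, Matrix.mul_smul,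
        mul_one]
      rfl)
    have hzc : ∀ x : GL (Fin 3) F, z * x = x * z := fun x => Units.ext (by
      rw [Units.val_mul, Units.val_mul, hcz, Matrix.smul_mul, Matrix.mul_smul, one_mul, mul_one])
    have hLc : ∀ x : GL (Fin 3) F, L * x = x * L := fun x => hL ▸ CfsgLib.Aschbacher.scalarGL_comm _ x
    have e : U⁻¹ * (P * (R' * z) * P⁻¹) * U = Vg⁻¹ * R' * Vg * z := by
      rw [hUe, mul_assoc, inv_mul_eq_iff_eq_mul]
      calc P * (R' * z) * P⁻¹ * (P * Vg * L) = P * R' * (z * Vg) * L := by group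
        _ = P * R' * Vg * (z * L) := by rw [hzc Vg]; group
        _ = P * R' * Vg * (L * z) := by rw [hzc L]
        _ = P * Vg * ((Vg⁻¹ * R' * Vg) * L) * z := by group
        _ = P * Vg * L * (Vg⁻¹ * R' * Vg * z) := by rw [← hLc]; group
    rw [← hR', e, Units.val_mul _ z, hcz, Matrix.mul_smul, mul_one]
  obtain ⟨t, htM, htG, htS⟩ := hG.exists_mem C hT
  obtain ⟨w, hwG, hwS⟩ := exists_not_mem C hW hWu
  refine between hU inf_le_right (M := stab C S) ?_ htG htS ?_ hwG hwS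
  · rintro g ⟨hgS, hgG⟩
    obtain ⟨c, m, hm, hx⟩ := hsub g hgS
    obtain ⟨x, hxdef⟩ : ∃ x, x = U⁻¹ * g * U := ⟨_, rfl⟩
    rw [← hxdef] at hx ⊢
    have hxG : x ∈ G3 p F := hxdef ▸ (conj_mem_G3 hU hgG).1
    have hmr : ∀ i j, (m : Matrix (Fin 3) (Fin 3) F) i j ^ p = (m : Matrix (Fin 3) (Fin 3) F) i j :=
      fun i j => congrArg (fun u : GL (Fin 3) F => (u : Matrix (Fin 3) (Fin 3) F) i j) hm
    have hgram : c ^ (p + 1) • ((m : Matrix (Fin 3) (Fin 3) F)ᵀ * (m : Matrix (Fin 3) (Fin 3) F)) = 1 := by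
      ext i j
      rw [Matrix.one_apply, ← hh_col C hxG.1 i j, hx]
      simp only [Matrix.smul_apply, Matrix.mul_apply, Matrix.transpose_apply, smul_eq_mul, Finset.mul_sum]
      refine Finset.sum_congr rfl fun k _ => ?_
      rw [mul_pow, hmr]
      ring
    have hdetm : (m : Matrix (Fin 3) (Fin 3) F).det ^ p = (m : Matrix (Fin 3) (Fin 3) F).det := by
      have h := RingHom.map_det (frobenius F p) (m : Matrix (Fin 3) (Fin 3) F)
      rw [show (frobenius F p).mapMatrix (m : Matrix (Fin 3) (Fin 3) F) = m from congrArg Units.val hm] at h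
      exact h
    have hc0 : c ≠ 0 := fun e => x.det_ne_zero (by
      rw [hx, e, zero_smul, Matrix.det_zero])
    obtain ⟨Δ, hΔ⟩ : ∃ Δ, (m : Matrix (Fin 3) (Fin 3) F).det = Δ := ⟨_, rfl⟩
    rw [hΔ] at hdetm
    have hΔ0 : Δ ≠ 0 := hΔ ▸ m.det_ne_zero
    obtain ⟨μ, hμ⟩ : ∃ μ, μ = (c ^ (p + 1))⁻¹ := ⟨_, rfl⟩
    have hμ0 : μ ≠ 0 := hμ ▸ inv_ne_zero (pow_ne_zero _ hc0)
    have hmm : (m : Matrix (Fin 3) (Fin 3) F)ᵀ * (m : Matrix (Fin 3) (Fin 3) F) = μ • 1 := by
      rw [← hgram, hμ, smul_smul, inv_mul_cancel₀ (pow_ne_zero _ hc0), one_smul]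
    have hμΔ : μ ^ 3 = Δ * Δ := by
      have h := congrArg Matrix.det hmm
      rw [Matrix.det_mul, Matrix.det_transpose, hΔ, Matrix.det_smul, Matrix.det_one, mul_one,
        Fintype.card_fin] at h
      exact h.symm
    have hμr : μ ^ p = μ := by
      have := congrFun (congrFun hmm 0) 0
      rw [Matrix.smul_apply, Matrix.one_apply_eq, smul_eq_mul, mul_one, Matrix.mul_apply] at this
      rw [← this]
      have e := map_sum (frobenius F p) (fun k => (m : Matrix (Fin 3) (Fin 3) F)ᵀ 0 k *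
        (m : Matrix (Fin 3) (Fin 3) F) k 0) Finset.univ
      simp only [frobenius_def, mul_pow, Matrix.transpose_apply, hmr] at e ⊢
      exact e
    -- normalise the real part
    obtain ⟨s, hs⟩ : ∃ s, s = Δ / (Δ / μ) ^ 3 := ⟨_, rfl⟩
    have hs1 : s * s = 1 := by
      rw [hs]
      field_simp
      linear_combination (μ ^ 3 + Δ * Δ) * hμΔ
    obtain ⟨k, hk⟩ : ∃ k, k = ((Δ / μ) * s)⁻¹ := ⟨_, rfl⟩
    have hk0 : k ≠ 0 := by
      rw [hk]
      exact inv_ne_zero (mul_ne_zero (div_ne_zero hΔ0 hμ0)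
        (fun e => by rw [e, zero_mul] at hs1; exact zero_ne_one hs1))
    let M : GL (Fin 3) F := CfsgLib.Aschbacher.scalarGL (Fin 3) (Units.mk0 k hk0) * m
    have hM : (M : Matrix (Fin 3) (Fin 3) F) = k • (m : Matrix (Fin 3) (Fin 3) F) := by
      simp only [M, Units.val_mul, CfsgLib.Aschbacher.scalarGL_val, Matrix.smul_mul, one_mul, Units.val_mk0]
    have hkr : k ^ p = k := by
      have fΔ : frobenius F p Δ = Δ := hdetm
      have fμ : frobenius F p μ = μ := hμr
      rw [hk, hs, ← frobenius_def (R := F), map_inv₀, map_mul, map_div₀, map_div₀, map_pow, map_div₀,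
        fΔ, fμ]
    have hMr : ∀ i j, (M : Matrix (Fin 3) (Fin 3) F) i j ^ p = (M : Matrix (Fin 3) (Fin 3) F) i j := by
      intro i j
      rw [hM, Matrix.smul_apply, smul_eq_mul, mul_pow, hkr, hmr]
    have hMM : (M : Matrix (Fin 3) (Fin 3) F)ᵀ * (M : Matrix (Fin 3) (Fin 3) F) = 1 := by
      rw [hM, Matrix.transpose_smul, Matrix.smul_mul, Matrix.mul_smul, hmm, smul_smul, smul_smul]
      convert one_smul F (1 : Matrix (Fin 3) (Fin 3) F) using 2
      have e : (Δ / μ) * s * ((Δ / μ) * s) = μ := by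
        calc (Δ / μ) * s * ((Δ / μ) * s) = (Δ * Δ) / μ ^ 2 * (s * s) := by ring
          _ = μ := by rw [hs1, mul_one, ← hμΔ]; field_simp
      rw [hk, ← mul_inv, e, inv_mul_cancel₀ hμ0]
    have hMdet : (M : Matrix (Fin 3) (Fin 3) F).det = 1 := by
      rw [hM, Matrix.det_smul, Fintype.card_fin, hΔ, hk, inv_pow, mul_pow,
        show ((Δ / μ) ^ 3 * s ^ 3)⁻¹ * Δ = (Δ / (Δ / μ) ^ 3) * (s ^ 3)⁻¹ by field_simp, ← hs,
        show s ^ 3 = s by linear_combination s * hs1,
        mul_inv_cancel₀ (fun e => by rw [e, zero_mul] at hs1; exact zero_ne_one hs1)]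
    have hMG : M ∈ G3 p F := by
      obtain ⟨g', hg', hgc⟩ := unitary_of_cols C.card (fun j i => (M : Matrix (Fin 3) (Fin 3) F) i j)
        fun i j => by
          have e := congrFun (congrFun hMM i) j
          rw [Matrix.one_apply] at e
          rw [← e, Matrix.mul_apply]
          show ∑ k, _ * _ ^ p = _
          exact Finset.sum_congr rfl fun k _ => by rw [hMr]; rfl
      refine ⟨?_, MonoidHom.mem_ker.2 (Units.ext ?_)⟩
      · rwa [show M = g' from Units.ext (Matrix.ext fun i j => (hgc i j).symm)]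
      · rw [Matrix.GeneralLinearGroup.val_det_apply, hMdet, Units.val_one]
    have hMS := real_mem C hG D hMG hMr
    -- the scalar
    have hxe : (x : Matrix (Fin 3) (Fin 3) F) = (c / k) • (M : Matrix (Fin 3) (Fin 3) F) := by
      rw [hx, hM, smul_smul, div_mul_cancel₀ c hk0]
    obtain ⟨z, hz, hzc⟩ := exists_code C (c / k)
    have hcube : cm p ns (cm p ns z z) z = 1 := by
      refine dec_inj C (cm_lt C _ _) (Nat.one_lt_mul_iff.2 ⟨C.prime.pos, C.prime.pos, Or.inl C.prime.one_lt⟩) ?_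
      have h := congrArg Units.val (MonoidHom.mem_ker.1 hxG.2)
      rw [Matrix.GeneralLinearGroup.val_det_apply, hxe, Matrix.det_smul, hMdet, mul_one, Fintype.card_fin,
        Units.val_one] at h
      rw [dec_cm, dec_cm, hzc, dec_one, ← h]
      ring
    have h := List.all_eq_true.1 D.scalar z (List.mem_range.2 hz)
    simp only [hcube, beq_self_eq_true, Bool.not_true, Bool.false_or, List.contains_iff_mem] at h
    obtain ⟨sz, hsz, -, hszS⟩ := hG.exists_mem C h
    have : x = sz * M := Units.ext (by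
      rw [Units.val_mul, hsz, hxe]
      ext i j
      fin_cases i <;> fin_cases j <;>
        simp [decM, ent, Matrix.mul_apply, Fin.sum_univ_three, hzc, dec_zero])
    rw [this]
    exact mul_mem hszS hMS
  · rintro ⟨hS, -⟩
    obtain ⟨c, m, hm, hx⟩ := hsub _ hS
    rw [show U⁻¹ * (U * t * U⁻¹) * U = t by group, htM] at hx
    obtain ⟨i, j, a, b, h1, h2⟩ := hTw
    have e1 : dec C (ent T i j) = c * (m : Matrix (Fin 3) (Fin 3) F) i j := by
      simpa [decM] using congrFun (congrFun hx i) j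
    have e2 : dec C (ent T a b) = c * (m : Matrix (Fin 3) (Fin 3) F) a b := by
      simpa [decM] using congrFun (congrFun hx a) b
    have hmr : ∀ i j, (m : Matrix (Fin 3) (Fin 3) F) i j ^ p = (m : Matrix (Fin 3) (Fin 3) F) i j :=
      fun i j => congrArg (fun u : GL (Fin 3) F => (u : Matrix (Fin 3) (Fin 3) F) i j) hm
    apply h2
    rw [h1] at e1
    rw [e2, show c = ((m : Matrix (Fin 3) (Fin 3) F) i j)⁻¹ from eq_inv_of_mul_eq_one_left e1.symm,
      mul_pow, inv_pow, hmr, hmr]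

end CfsgLib.MaxSub.SUThree
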