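/-
The exceptional non-maximal classes of `SU_3(3)` and `SU_3(5)`.
-/
import Cfsg.Agent.Lib.MaxSub.SUThree.DataFive
import Cfsg.Agent.Lib.MaxSub.SUThree.DataThree
import Cfsg.Agent.Lib.MaxSub.SUThree.Cubic
import Cfsg.Agent.Lib.MaxSub.SUThree.Orth
import Cfsg.Agent.Lib.MaxSub.SUThree.Norm

set_option autoImplicit false
set_option maxHeartbeats 1000000
set_option maxRecDepth 100000
set_option linter.unusedSectionVars false

namespace CfsgLib.MaxSub.SUThree

open Matrix Cfsg Cfsg.Geo

theorem good_seven : Good 5 2 Five.S7 Five.mem7 Five.img7 Five.sc7 := by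
  unfold Good; decide +kernel

theorem good_ten : Good 5 2 Five.S10 Five.mem10 Five.img10 Five.sc10 := by
  unfold Good; decide +kernel

theorem good_three : Good 3 2 Three.S3 Three.mem3 Three.img3 Three.sc3 := by
  unfold Good; decide +kernel

theorem out_seven : movesOut 5 2 Five.S7 Five.W7 Five.wi7 = true ∧ isSU 5 2 Five.W7 = true := by
  decide +kernel

theorem out_ten : movesOut 5 2 Five.S10 Five.W10 Five.wi10 = true ∧ isSU 5 2 Five.W10 = true := by
  decide +kernel

theorem out_three : movesOut 3 2 Three.S3 Three.W3 Three.wi3 = true ∧ isSU 3 2 Three.W3 = true := by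
  decide +kernel

theorem cubicData_five :
    CubicData 5 2 6 Five.Y Five.T0 Five.tau [0, 1, 0, 0, 0, 1, 1, 0, 0] [0, 0, 1, 1, 0, 0, 0, 1, 0] where
  su := by decide +kernel
  seven := by decide +kernel
  cyclic := by decide +kernel
  conj := by decide +kernel
  trace := by decide +kernel
  comm := by decide +kernel
  unit := by decide +kernel
  order := by decide +kernel
  lt := by decide +kernel
  det := by decide +kernel
  witness := by decide +kernel

theorem cubicData_three :
    CubicData 3 2 4 Three.Y Three.T0 Three.tau [0, 1, 0, 0, 0, 1, 1, 0, 0] [0, 0, 1, 1, 0, 0, 0, 1, 0] where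
  su := by decide +kernel
  seven := by decide +kernel
  cyclic := by decide +kernel
  conj := by decide +kernel
  trace := by decide +kernel
  comm := by decide +kernel
  unit := by decide +kernel
  order := by decide +kernel
  lt := by decide +kernel
  det := by decide +kernel
  witness := by decide +kernel

theorem orthData_five : OrthData 5 2 Five.mem7 where
  norm := by decide +kernel
  two := ⟨2, by norm_num, by norm_num⟩
  cols := by decide +kernel
  blocks := by decide +kernel
  scalar := by decide +kernel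

theorem orthData_three : OrthData 3 2 Three.mem3 where
  norm := by decide +kernel
  two := ⟨1, by norm_num, by norm_num⟩
  cols := by decide +kernel
  blocks := by decide +kernel
  scalar := by decide +kernel

theorem normData_five : NormData 5 2 Five.R27 Five.reps Five.mem10 Five.Dm Five.Tm Five.Zm where
  roots := by decide +kernel
  cyc := by decide +kernel
  one := by decide +kernel
  len := by decide +kernel
  closed := by decide +kernel
  DT := by decide +kernel
  dist := by decide +kernel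
  trans := by decide +kernel
  back := by decide +kernel
  diag := by decide +kernel

theorem norm_witness_five : Five.tR ∈ Five.mem10 ∧
    (Five.R27.all fun X => mM 5 2 Five.tR Five.Dm != mM 5 2 X Five.tR) = true := by
  decide +kernel

theorem monomial_five : Five.A ∈ Five.mem7 ∧ Five.B ∈ Five.mem7 ∧
    (Five.perms.all fun X => Five.mem7.contains X) = true ∧
    (∀ σ : Fin 3 → Fin 3, Function.Injective σ →
      ∃ X ∈ Five.perms, ∀ i j : Fin 3, ent X i j = 0 ↔ i ≠ σ j) ∧
    pM 5 2 [Five.u, 0, 0, 0, 1, 0, 0, 0, 1] 6 = I9 ∧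
    (∀ l < 6, 0 < l → pM 5 2 [Five.u, 0, 0, 0, 1, 0, 0, 0, 1] l ≠ I9) ∧
    cm 5 2 13 18 = 1 ∧ Five.T0 ∈ Five.mem7 ∧ ent Five.T0 0 0 ≠ 0 ∧ ent Five.T0 1 0 ≠ 0 ∧
    (List.range 9).all (fun i => decide (Five.T0.getD i 0 < 25)) = true := by
  decide +kernel

theorem cubic_mem : Five.T0 ∈ Five.mem7 ∧ pM 5 2 Five.tau 6 ∈ Five.mem7 ∧
    [0, 1, 0, 0, 0, 1, 1, 0, 0] ∈ Five.mem7 ∧ Three.T0 ∈ Three.mem3 ∧ pM 3 2 Three.tau 4 ∈ Three.mem3 ∧
    [0, 1, 0, 0, 0, 1, 1, 0, 0] ∈ Three.mem3 ∧ Five.A ∈ Five.mem7 ∧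
    ent Five.A 2 2 = 1 ∧ cj 5 (ent Five.A 0 0) ≠ ent Five.A 0 0 ∧
    Three.Y ∈ Three.mem3 ∧ ent Three.Y 0 0 = 1 ∧ cj 3 (ent Three.Y 0 2) ≠ ent Three.Y 0 2 := by
  decide +kernel

variable {F : Type*} [Field F] [Fintype F]

theorem coord_five (hF : Fintype.card F = 5 ^ 2) : Nonempty (Coord F 5 2) :=
  exists_coord (by norm_num) (by norm_num) hF (by norm_num)

theorem coord_three (hF : Fintype.card F = 3 ^ 2) : Nonempty (Coord F 3 2) :=
  exists_coord Nat.prime_three (by norm_num) hF (by norm_num)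

/-- For five, frame stabilisers are not maximal. -/
theorem frame_five (hF : Fintype.card F = 5 ^ 2) {D : Fin 3 → Submodule F (Fin 3 → F)}
    (hD : IsNondegenerateMDecomposition (Cfsg.hermForm 3 F 5) 1 D) :
    ∃ K, decompositionStabilizer D ⊓ G3 5 F < K ∧ K < G3 5 F := by
  obtain ⟨C⟩ := coord_five hF
  obtain ⟨hA, hB, hperms, hperm, hu6, hu, h18, hT, hT0, hT1, hTlt⟩ := monomial_five
  obtain ⟨t, ht, htG, htS⟩ := good_seven.exists_mem C hT
  obtain ⟨w, hwG, hwS⟩ := exists_not_mem C out_seven.1 out_seven.2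
  obtain ⟨U, hU, hUD⟩ := exists_frame_basis C hD
  have hpow : ∀ l, dec C (ent (pM 5 2 [Five.u, 0, 0, 0, 1, 0, 0, 0, 1] l) 0 0) = dec C Five.u ^ l := by
    intro l
    have h := congrFun (congrFun (decM_pow C [Five.u, 0, 0, 0, 1, 0, 0, 0, 1] l) 0) 0
    have e : decM C [Five.u, 0, 0, 0, 1, 0, 0, 0, 1] = Matrix.diagonal ![dec C Five.u, 1, 1] := by
      ext i j
      fin_cases i <;> fin_cases j <;> simp [decM, ent, dec_zero, dec_one]
    rw [e, Matrix.diagonal_pow] at h
    simpa [decM] using h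
  have hroot : IsPrimitiveRoot (dec C Five.u) (5 + 1) := by
    refine (IsPrimitiveRoot.iff (by norm_num)).2 ⟨?_, fun l hl0 hl e => hu l hl hl0 ?_⟩
    · rw [← hpow, hu6]
      simp [ent, I9, dec_one]
    · have e' : decM C (pM 5 2 [Five.u, 0, 0, 0, 1, 0, 0, 0, 1] l) = decM C I9 := by
        rw [decM_pow, decM_one]
        have : decM C [Five.u, 0, 0, 0, 1, 0, 0, 0, 1] = Matrix.diagonal ![dec C Five.u, 1, 1] := by
          ext i j
          fin_cases i <;> fin_cases j <;> simp [decM, ent, dec_zero, dec_one]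
        rw [this, Matrix.diagonal_pow, ← Matrix.diagonal_one]
        refine congrArg Matrix.diagonal (funext fun i => ?_)
        fin_cases i <;> simp [e]
      have hlt : ∀ i, (pM 5 2 [Five.u, 0, 0, 0, 1, 0, 0, 0, 1] l).getD i 0 < 5 * 5 := by
        cases l with
        | zero => exact absurd hl0 (lt_irrefl 0)
        | succ k => exact mM_getD_lt C _ _
      refine decM_inj C ?_ rfl hlt (I9_lt C) e'
      cases l with
      | zero => rfl
      | succ k => rfl
  have hinv : dec C 18 = (dec C Five.u)⁻¹ := by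
    refine eq_inv_of_mul_eq_one_right ?_
    rw [← dec_cm, show cm 5 2 Five.u 18 = 1 from h18, dec_one]
  refine between hU inf_le_right (M := stab C Five.S7) ?_ htG htS ?_ hwG hwS
  · rintro g ⟨hg, hgG⟩
    obtain ⟨σ, hσ, hmon⟩ := frame_conj hD.decomp hUD hg
    refine monomial_mem C good_seven hperms hperm hA hB hroot ?_ ?_ (conj_mem_G3 hU hgG).1 hσ hmon
    · rw [← hinv]
      ext i j
      fin_cases i <;> fin_cases j <;> simp [decM, ent, Five.A, Five.u, dec_zero, dec_one]
    · rw [← hinv]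
      ext i j
      fin_cases i <;> fin_cases j <;> simp [decM, ent, Five.B, Five.u, dec_zero, dec_one]
  · rintro ⟨h, -⟩
    refine frame_witness hD.decomp hUD ?_ ?_ h
    · rw [ht]
      exact fun e => hT0 (dec_inj C (by decide) (by decide) (e.trans (dec_zero C).symm))
    · rw [ht]
      exact fun e => hT1 (dec_inj C (by decide) (by decide) (e.trans (dec_zero C).symm))

/-- For five, normalisers of cubic fields are not maximal. -/
theorem cubic_five (hF : Fintype.card F = 5 ^ 2) {A : Subalgebra F (Matrix (Fin 3) (Fin 3) F)}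
    (hA : IsFieldSubalgebra 3 A) (hAa : IsAdjointClosedFor (Cfsg.hermForm 3 F 5) A) :
    ∃ K, subalgebraNormalizer A ⊓ G3 5 F < K ∧ K < G3 5 F := by
  obtain ⟨C⟩ := coord_five hF
  exact cubic_below C (Or.inr rfl) (by norm_num) cubicData_five good_seven cubic_mem.1 cubic_mem.2.1
    cubic_mem.2.2.1 out_seven.1 out_seven.2 hA hAa

/-- For three, normalisers of cubic fields are not maximal. -/
theorem cubic_three (hF : Fintype.card F = 3 ^ 2) {A : Subalgebra F (Matrix (Fin 3) (Fin 3) F)}
    (hA : IsFieldSubalgebra 3 A) (hAa : IsAdjointClosedFor (Cfsg.hermForm 3 F 3) A) :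
    ∃ K, subalgebraNormalizer A ⊓ G3 3 F < K ∧ K < G3 3 F := by
  obtain ⟨C⟩ := coord_three hF
  exact cubic_below C (Or.inl rfl) (by norm_num) cubicData_three good_three cubic_mem.2.2.2.1
    cubic_mem.2.2.2.2.1 cubic_mem.2.2.2.2.2.1 out_three.1 out_three.2 hA hAa

/-- For five, real forms are not maximal. -/
theorem orth_five (hF : Fintype.card F = 5 ^ 2) {F₀ : Subfield F} {P : GL (Fin 3) F}
    (hc : Fintype.card F = Nat.card F₀ ^ 2)
    (hP : IsFormRationalStructure (Cfsg.hermForm 3 F 5) F₀ 1 P) :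
    ∃ K, subfieldSubgroup F₀ P ⊓ G3 5 F < K ∧ K < G3 5 F := by
  obtain ⟨C⟩ := coord_five hF
  obtain ⟨-, -, -, -, -, -, hA, h1, h2, -⟩ := cubic_mem
  refine orth_below C good_seven orthData_five hA ⟨2, 2, 0, 0, ?_, ?_⟩ out_seven.1 out_seven.2 hc hP
  · show dec C (ent Five.A 2 2) = 1
    rw [h1, dec_one]
  · show dec C (ent Five.A 0 0) ^ 5 ≠ dec C (ent Five.A 0 0)
    rw [← dec_cj]
    exact dec_ne C (by decide) (by decide) h2

/-- For three, real forms are not maximal. -/
theorem orth_three (hF : Fintype.card F = 3 ^ 2) {F₀ : Subfield F} {P : GL (Fin 3) F}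
    (hc : Fintype.card F = Nat.card F₀ ^ 2)
    (hP : IsFormRationalStructure (Cfsg.hermForm 3 F 3) F₀ 1 P) :
    ∃ K, subfieldSubgroup F₀ P ⊓ G3 3 F < K ∧ K < G3 3 F := by
  obtain ⟨C⟩ := coord_three hF
  obtain ⟨-, -, -, -, -, -, -, -, -, hY, h1, h2⟩ := cubic_mem
  refine orth_below C good_three orthData_three hY ⟨0, 0, 0, 2, ?_, ?_⟩ out_three.1 out_three.2 hc hP
  · show dec C (ent Three.Y 0 0) = 1
    rw [h1, dec_one]
  · show dec C (ent Three.Y 0 2) ^ 3 ≠ dec C (ent Three.Y 0 2)
    rw [← dec_cj]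
    exact dec_ne C (by decide) (by decide) h2

/-- For five, normalisers of extraspecial groups of order twenty seven are not maximal. -/
theorem norm_five (hF : Fintype.card F = 5 ^ 2) {R : Subgroup (GL (Fin 3) F)}
    (hsim : R ≤ similarityGroup (Cfsg.hermForm 3 F 5)) (hR : Nat.card R = 27)
    (hRe : Monoid.exponent R = 3) (hRc : Nat.card (Subgroup.center R) = 3) :
    ∃ K, subgroupNormalizer R ⊓ G3 5 F < K ∧ K < G3 5 F := by
  obtain ⟨C⟩ := coord_five hF
  exact norm_below C good_ten normData_five norm_witness_five.1 norm_witness_five.2 out_ten.1 out_ten.2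
    (by norm_num) hsim hR hRe hRc

end CfsgLib.MaxSub.SUThree
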